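import Cfsg.Agent.Omega.NTwo.Pos

/-!
# `S` induces all of `D8` on the five points (any standard position)

* `mem_D8` : an element of `S` which induces `σ` has `σ ∈ D8`;
* `ind_D8` : `Std S P p`, `S` a Sylow 2-subgroup: every `d ∈ D8` is induced by an element of `S`;
* `ind_swap01`, `ind_swap23`, `ind_cross` : the transpositions `(0 1)`, `(2 3)` and `(0 2)(1 3)`;
* `ind_T` : every `d ∈ D8` which fixes the pair `{0, 1}` is induced by an element of `T = C_S(nn p)`.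
-/

set_option autoImplicit false

namespace Cfsg.Agent.Omega.NO3S.LightFive.DEight

open Subgroup Cfsg Cfsg.Agent.ZN Cfsg.Agent.Omega.NTwo
open scoped Pointwise

universe u

variable {G : Type u} [Group G] [Finite G] {S : Sylow 2 G} {P : Subgroup G} {p : Fin 5 → G}

theorem mem_D8_of : ∀ σ : Equiv.Perm (Fin 5), σ 4 = 4 →
    (((σ 0 = 0 ∧ σ 1 = 1) ∨ (σ 0 = 1 ∧ σ 1 = 0)) ∨ ((σ 0 = 2 ∧ σ 1 = 3) ∨ (σ 0 = 3 ∧ σ 1 = 2))) → σ ∈ D8 := by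
  decide +kernel

omit [Finite G] in
/-- an element of `S` induces an element of `D8` -/
theorem mem_D8 {S : Subgroup G} (h : Std S P p) {x : G} (hx : x ∈ S) {σ : Equiv.Perm (Fin 5)}
    (hσ : ∀ i, x * p i * x⁻¹ = p (σ i)) : σ ∈ D8 := by
  refine mem_D8_of σ ?_ ?_
  · have h1 := h.fix x hx
    rw [hσ] at h1
    exact h.inj h1
  · rcases h.part x hx with h1 | h1
    · rw [cm, hσ, hσ] at h1
      exact Or.inl (h.pair_inj (fun e => absurd (σ.injective e) (by decide)) (by decide) h1)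
    · rw [cm, hσ, hσ] at h1
      exact Or.inr (h.pair_inj (fun e => absurd (σ.injective e) (by decide)) (by decide) h1)

/-- **`S` induces all of `D8`.** -/
theorem ind_D8 (h : Std (S : Subgroup G) P p) {d : Equiv.Perm (Fin 5)} (hd : d ∈ D8) :
    ∃ x ∈ (S : Subgroup G), ∀ i, x * p i * x⁻¹ = p (d i) := by
  have hp : Fact (Nat.Prime 2) := ⟨Nat.prime_two⟩
  obtain ⟨φ, hφs, hφ⟩ := h.toFv.exists_hom
  obtain ⟨D, hD⟩ := exists_D8
  have h2 : (((S.subtype h.le).mapSurjective hφs : Sylow 2 (Equiv.Perm (Fin 5))) : Subgroup _) =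
      ((S : Subgroup G).subgroupOf P).map φ := by
    rw [Sylow.coe_mapSurjective]; rfl
  have h3 : (((S.subtype h.le).mapSurjective hφs : Sylow 2 (Equiv.Perm (Fin 5))) : Subgroup (Equiv.Perm (Fin 5))) ≤ (D : Subgroup (Equiv.Perm (Fin 5))) := by
    rw [h2, hD]
    rintro _ ⟨x, hx, rfl⟩
    exact mem_D8 h (mem_subgroupOf.1 hx) (hφ x)
  have h4 : (D : Subgroup (Equiv.Perm (Fin 5))) = ((S : Subgroup G).subgroupOf P).map φ := by
    rw [← h2]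
    exact ((S.subtype h.le).mapSurjective hφs).is_maximal' D.2 h3
  rw [← hD, h4] at hd
  obtain ⟨x, hx, h5⟩ := hd
  refine ⟨x, mem_subgroupOf.1 hx, fun i => ?_⟩
  have h6 := hφ x i
  rwa [h5] at h6

/-- the elements of `D8` which fix the pair `{0, 1}` are induced by `T = C_S(p 0 * p 1)` -/
theorem ind_T (h : Std (S : Subgroup G) P p) {d : Equiv.Perm (Fin 5)} (hd : d ∈ D8)
    (h01 : (d 0 = 0 ∧ d 1 = 1) ∨ (d 0 = 1 ∧ d 1 = 0)) :
    ∃ x ∈ (S : Subgroup G) ⊓ centralizer {p 0 * p 1}, ∀ i, x * p i * x⁻¹ = p (d i) := by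
  obtain ⟨x, hx, h1⟩ := ind_D8 h hd
  refine ⟨x, mem_inf.2 ⟨hx, mem_centralizer_singleton_iff.2 ?_⟩, h1⟩
  rw [← comm_iff, cm, h1, h1]
  rcases h01 with ⟨e1, e2⟩ | ⟨e1, e2⟩
  · rw [e1, e2]
  · rw [e1, e2]; exact h.comm _ _

theorem ind_swap01 (h : Std (S : Subgroup G) P p) :
    ∃ x ∈ (S : Subgroup G) ⊓ centralizer {p 0 * p 1}, x * p 0 * x⁻¹ = p 1 ∧ x * p 1 * x⁻¹ = p 0 ∧
      x * p 2 * x⁻¹ = p 2 ∧ x * p 3 * x⁻¹ = p 3 ∧ x * p 4 * x⁻¹ = p 4 := by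
  obtain ⟨x, hx, h1⟩ := ind_T h (d := Equiv.swap 0 1) (by decide +kernel) (Or.inr (by decide))
  exact ⟨x, hx, h1 0, h1 1, h1 2, h1 3, h1 4⟩

theorem ind_swap23 (h : Std (S : Subgroup G) P p) :
    ∃ x ∈ (S : Subgroup G) ⊓ centralizer {p 0 * p 1}, x * p 0 * x⁻¹ = p 0 ∧ x * p 1 * x⁻¹ = p 1 ∧
      x * p 2 * x⁻¹ = p 3 ∧ x * p 3 * x⁻¹ = p 2 ∧ x * p 4 * x⁻¹ = p 4 := by
  obtain ⟨x, hx, h1⟩ := ind_T h (d := Equiv.swap 2 3) (by decide +kernel) (Or.inl (by decide))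
  exact ⟨x, hx, h1 0, h1 1, h1 2, h1 3, h1 4⟩

theorem ind_cross (h : Std (S : Subgroup G) P p) :
    ∃ x ∈ (S : Subgroup G), x * p 0 * x⁻¹ = p 2 ∧ x * p 1 * x⁻¹ = p 3 ∧
      x * p 2 * x⁻¹ = p 0 ∧ x * p 3 * x⁻¹ = p 1 ∧ x * p 4 * x⁻¹ = p 4 := by
  obtain ⟨x, hx, h1⟩ := ind_D8 h D8_tau
  exact ⟨x, hx, h1 0, h1 1, h1 2, h1 3, h1 4⟩

end Cfsg.Agent.Omega.NO3S.LightFive.DEight
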