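import Cfsg.Agent.Omega.NO3S.MFive.Inst
import Cfsg.Agent.Omega.NO3S.LightB.Facts

/-!
# LightL (E), `n = 5`, (A) of #25060: facts over `FiveL S P p` for TWO PAIRS

`V = zl S P`, `n = nn p`, `a = aa p`, `D = C_G(n) ∩ C_G(a)`, `U = DD V (p 4)`.

* `fv_N` : `N_G(V)` permutes the `p i` as `Sym(5)`;
* `U_comm`, `U_sq`, `V_le_U`, `nU` : `U` is elementary abelian, `V ≤ U`, `C_G(p 4) ≤ N(U)`;
* `cen` : `X_12 ≤ L*`, `N_G(V) ≤ L*` imply `C_D(p i) ≤ L*` for `i ≠ 4`.
-/

set_option autoImplicit false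
set_option linter.unusedSectionVars false

namespace Cfsg.Agent.Omega.NO3S.LightFive.TwoAPlug

open Subgroup Cfsg Cfsg.Agent.ZN Cfsg.Agent.ZN.ChoiceBase
open Cfsg.Agent.ZN.ChoiceSit (Syl)
open Cfsg.Agent.Omega.NTwo Cfsg.Agent.Omega.NO3S Cfsg.Agent.Omega.NO3S.Sym.Exit Cfsg.Agent.Omega.NO3S.Sym.Light
open scoped Pointwise

universe u

variable {G : Type u} [Group G] [Finite G] {S : Sylow 2 G} {P : Subgroup G} {p : Fin 5 → G}

section

variable (h : FiveL S P p)
include h

/-- `N_G(V)` permutes the `p i` as `Sym(5)`. -/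
theorem fv_N : Fv (normalizer (zl (S : Subgroup G) P : Set G)) p where
  ne := h.std.ne
  sq := h.std.sq
  comm := h.std.comm
  inj := h.std.inj
  prod := h.std.prod
  perm g hg := by
    choose f hf using fun a => MFive.Inst.heavy_of h (g := g) (i := a) ((mem_normalizer_iff.1 hg _).1 (h.p_mem a))
    have hinj : Function.Injective f := by
      intro a b hab
      have h2 : g * p a * g⁻¹ = g * p b * g⁻¹ := by rw [hf, hf, hab]
      exact h.std.inj (conj_inj h2)
    refine ⟨Equiv.ofBijective _ (Finite.injective_iff_bijective.1 hinj), fun a => ?_⟩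
    rw [Equiv.ofBijective_apply]
    exact hf a
  full σ := by
    obtain ⟨g, hg, h1⟩ := h.std.full σ
    exact ⟨g, le_normalizer_zl _ _ hg, h1⟩

/-- `U = ⟨V^(C_G(p 4))⟩` is abelian. -/
theorem U_comm : ∀ u ∈ DD (zl (S : Subgroup G) P) (p 4), ∀ v ∈ DD (zl (S : Subgroup G) P) (p 4), u * v = v * u := by
  intro u hu v hv
  have h1 := NoFF.Basic.comm_mono h.W_comm h.W_le_CC h.W_le_CC
  exact (mem_centralizer_iff.1 (h1 hu) v hv).symm

theorem U_sq : ∀ u ∈ DD (zl (S : Subgroup G) P) (p 4), u * u = 1 := by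
  intro u hu
  have h1 : u ^ 2 = 1 := by
    refine NoFF.Lines.Geo.sq_of_comm (A := DD (zl (S : Subgroup G) P) (p 4)) ?_ (ι := centralizer ({p 4} : Set G))
      (B := fun c => MulAut.conj (c : G) • zl (S : Subgroup G) P) (fun c => conj_le_DD (mem_cent.1 c.2))
      le_rfl (fun c => NoFF.Lines.Geo.conj_sq (fun v hv => by rw [pow_two]; exact h.V_sq hv) _) u hu
    exact fun u hu => mem_centralizer_iff.2 fun v hv => U_comm h v hv u hu
  rwa [pow_two] at h1

omit h [Finite G] in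
theorem V_le_U : zl (S : Subgroup G) P ≤ DD (zl (S : Subgroup G) P) (p 4) := le_DD

omit h [Finite G] in
theorem nU : centralizer ({p 4} : Set G) ≤ normalizer (DD (zl (S : Subgroup G) P) (p 4) : Set G) :=
  cent_le_normalizer_DD

theorem VV_eq : closure (Set.range p) = zl (S : Subgroup G) P := h.gen.symm

/-- `C_D(p i) ≤ L*` for `i ≠ 4`. -/
theorem cen {Ls : Subgroup G} (hL : normalizer (zl (S : Subgroup G) P : Set G) ≤ Ls)
    (hX : centralizer {p 2, p 3, p 4} ≤ Ls) :
    ∀ i : Fin 5, i ≠ 4 → ∀ g ∈ centralizer ({nn p} : Set G) ⊓ centralizer ({aa p} : Set G), g * p i = p i * g →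
      g ∈ Ls := by
  have key : ∀ g : G, g * p 4 = p 4 * g → g * p 3 = p 3 * g → g * p 2 = p 2 * g → g ∈ Ls := by
    intro g h4 h3 h2
    apply hX
    rw [mem_centralizer_iff]
    rintro y (rfl | rfl | rfl)
    · exact h2.symm
    · exact h3.symm
    · exact h4.symm
  have key' : ∀ g : G, g * p 4 = p 4 * g → g * p 1 = p 1 * g → g * p 0 = p 0 * g → g ∈ Ls := by
    intro g g4 g1 g0
    -- conjugate by an element inducing `(0 2)(1 3)`
    obtain ⟨t, ht, h1⟩ := h.std.full (Equiv.swap 0 2 * Equiv.swap 1 3)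
    have htL : t ∈ Ls := hL (MinSimple.VModule.le_normalizer_zl _ _ ht)
    have e0 : t * p 0 * t⁻¹ = p 2 := h1 0
    have e1 : t * p 1 * t⁻¹ = p 3 := h1 1
    have e4 : t * p 4 * t⁻¹ = p 4 := h1 4
    have cj : ∀ {a b : G}, t * a * t⁻¹ = b → g * a = a * g → (t * g * t⁻¹) * b = b * (t * g * t⁻¹) := by
      rintro a b rfl ha
      calc t * g * t⁻¹ * (t * a * t⁻¹) = t * (g * a) * t⁻¹ := by group
        _ = t * (a * g) * t⁻¹ := by rw [ha]
        _ = _ := by group
    have h2 := key (t * g * t⁻¹) (cj e4 g4) (cj e1 g1) (cj e0 g0)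
    have h3 := mul_mem (mul_mem (inv_mem htL) h2) htL
    have e : t⁻¹ * (t * g * t⁻¹) * t = g := by group
    rwa [e] at h3
  rintro i hi g ⟨hgn, hga⟩ hgv
  have gn : g * (p 0 * p 1) = (p 0 * p 1) * g := mem_centralizer_singleton_iff.1 hgn
  have ga : g * (p 2 * p 3) = (p 2 * p 3) * g := mem_centralizer_singleton_iff.1 hga
  have g4 : g * p 4 = p 4 * g := by
    rw [← h.std.prod, ← mul_assoc, gn, mul_assoc, ga, ← mul_assoc]
  have two : ∀ {a b : G}, g * a = a * g → g * (a * b) = (a * b) * g → g * b = b * g := by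
    intro a b ha hab
    have c1 : Commute g a := ha
    have c2 : Commute g (a * b) := hab
    have c3 := c1.inv_right.mul_right c2
    rw [inv_mul_cancel_left] at c3
    exact c3.eq
  have gn' : g * (p 1 * p 0) = (p 1 * p 0) * g := by rw [h.std.comm 1 0]; exact gn
  have ga' : g * (p 3 * p 2) = (p 3 * p 2) * g := by rw [h.std.comm 3 2]; exact ga
  have hc : ∀ i : Fin 5, i ≠ 4 → i = 0 ∨ i = 1 ∨ i = 2 ∨ i = 3 := by decide
  rcases hc i hi with rfl | rfl | rfl | rfl
  · exact key' g g4 (two hgv gn) hgv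
  · exact key' g g4 hgv (two hgv gn')
  · exact key g g4 (two hgv ga) hgv
  · exact key g g4 hgv (two hgv ga')

end

end Cfsg.Agent.Omega.NO3S.LightFive.TwoAPlug
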