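import Cfsg.Agent.Omega.SQ1.Bau

/-!
# LightL, `n = 5`, (A) of #25060: the choice of the offender (helper649's `swap`)

`O` acts on `V = ⟨p 0, ..., p 4⟩` as a subgroup of `⟨(0 2), (1 3)⟩`, `A` is elementary abelian of maximal order in `O ≥ V`
and moves `V`: there is `A₁` of the same order which acts as `⟨(0 2)⟩` or as `⟨(1 3)⟩`.
-/

set_option autoImplicit false
set_option linter.unusedSectionVars false

namespace Cfsg.Agent.Omega.NO3S.LightFive.TwoA

open Subgroup Cfsg Cfsg.Agent.PLocal.ThompsonJ Cfsg.Agent.PLocal.ElemAbSup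
open Cfsg.Agent.Omega.SQ1.Bau (elem_comm elem_sq mem_sup_comm card_sup_comm)

universe u

variable {G : Type u} [Group G] [Finite G]

/-- two cosets -/
theorem card_le_two_mul {H K : Subgroup G} (hHK : H ≤ K) (h : ∀ a ∈ K, ∀ b ∈ K, a ∉ H → b ∉ H → a * b ∈ H) :
    Nat.card K ≤ 2 * Nat.card H := by
  by_cases hKH : K ≤ H
  · rw [le_antisymm hHK hKH]
    omega
  obtain ⟨a, haK, haH⟩ := SetLike.not_le_iff_exists.1 hKH
  have h1 : (H.subgroupOf K).index = 2 := by
    rw [index_eq_two_iff_exists_notMem_and]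
    refine ⟨⟨a, haK⟩, fun h0 => haH (mem_subgroupOf.1 h0), fun b => ?_⟩
    by_cases hb : (b : G) ∈ H
    · right
      exact mem_subgroupOf.2 hb
    · left
      exact mem_subgroupOf.2 (h b b.2 a haK hb haH)
  have h2 := (H.subgroupOf K).card_mul_index
  rw [h1, Nat.card_congr (subgroupOfEquivOfLe hHK).toEquiv] at h2
  omega

/-- a proper subgroup has at most half of the elements -/
theorem two_mul_card_le {H K : Subgroup G} (hHK : H ≤ K) {v : G} (hv : v ∈ K) (hvH : v ∉ H) :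
    2 * Nat.card H ≤ Nat.card K := by
  have h1 : Nat.card H * H.relIndex K = Nat.card K := by
    have h2 := (H.subgroupOf K).card_mul_index
    rwa [Nat.card_congr (subgroupOfEquivOfLe hHK).toEquiv] at h2
  have h2 : H.relIndex K ≠ 1 := fun h0 => hvH (relIndex_eq_one.1 h0 hv)
  have h3 : H.relIndex K ≠ 0 := by
    intro h0
    have h5 : 0 < Nat.card K := Nat.card_pos
    rw [← h1, h0] at h5
    omega
  have h4 : 2 ≤ H.relIndex K := by omega
  calc 2 * Nat.card H ≤ H.relIndex K * Nat.card H := Nat.mul_le_mul_right _ h4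
    _ = Nat.card K := by rw [mul_comm]; exact h1

/-- the replacement `C_A(c) ⟨c⟩` -/
theorem repl {O A : Subgroup G} {a c : G} (hcO : c ∈ O) (hcc : c * c = 1) (hA : IsElementaryAbelian 2 A) (hAO : A ≤ O)
    (hmax : ∀ B : Subgroup G, IsElementaryAbelian 2 B → B ≤ O → Nat.card B ≤ Nat.card A) (ha : a ∈ A)
    (hac : a * c = c * a)
    (h2 : ∀ b ∈ A, ∀ b' ∈ A, b * c ≠ c * b → b' * c ≠ c * b' → (b * b') * c = c * (b * b')) :
    ∃ A₁ : Subgroup G, a ∈ A₁ ∧ IsElementaryAbelian 2 A₁ ∧ A₁ ≤ O ∧ Nat.card A₁ = Nat.card A ∧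
      ∀ b ∈ A₁, ∃ b₀ ∈ A, b₀ * c = c * b₀ ∧ ∃ k ∈ zpowers c, b = b₀ * k := by
  set A₀ := A ⊓ centralizer ({c} : Set G) with hA₀
  have hA₀m : ∀ b, b ∈ A₀ ↔ b ∈ A ∧ b * c = c * b := fun b => by
    rw [hA₀, mem_inf, mem_centralizer_singleton_iff]
  have hc2 : c ^ 2 = 1 := by rw [pow_two]; exact hcc
  have hel : IsElementaryAbelian 2 (A₀ ⊔ zpowers c) := by
    refine isElementaryAbelian_sup (isElementaryAbelian_mono hA inf_le_left) (isElementaryAbelian_zpowers hc2) ?_
    rw [zpowers_le, mem_centralizer_iff]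
    exact fun b hb => ((hA₀m b).1 hb).2
  by_cases hall : ∀ b ∈ A, b * c = c * b
  · exact ⟨A, ha, hA, hAO, rfl, fun b hb => ⟨b, hb, hall b hb, 1, one_mem _, (mul_one b).symm⟩⟩
  push Not at hall
  obtain ⟨b₁, hb₁, hb₁c⟩ := hall
  refine ⟨A₀ ⊔ zpowers c, mem_sup_left ((hA₀m a).2 ⟨ha, hac⟩), hel, sup_le (inf_le_left.trans hAO) (zpowers_le.2 hcO),
    ?_, ?_⟩
  · apply le_antisymm
    · exact hmax _ hel (sup_le (inf_le_left.trans hAO) (zpowers_le.2 hcO))
    · have hcA : c ∉ A₀ := fun h0 => hb₁c (elem_comm hA b₁ hb₁ c ((hA₀m c).1 h0).1)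
      have h3 : Nat.card A ≤ 2 * Nat.card A₀ := card_le_two_mul inf_le_left fun b hb b' hb' hn hn' =>
        (hA₀m _).2 ⟨mul_mem hb hb', h2 b hb b' hb' (fun h0 => hn ((hA₀m b).2 ⟨hb, h0⟩))
          fun h0 => hn' ((hA₀m b').2 ⟨hb', h0⟩)⟩
      exact h3.trans (two_mul_card_le le_sup_left (mem_sup_right (mem_zpowers c)) hcA)
  · intro b hb
    obtain ⟨b₀, hb₀, k, hk, e⟩ := mem_sup_comm (A := A₀) (B := zpowers c) (by
      intro x hx y hy
      obtain ⟨n, rfl⟩ := mem_zpowers_iff.1 hy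
      have h3 : Commute x c := ((hA₀m x).1 hx).2
      exact (h3.zpow_right n).eq) hb
    exact ⟨b₀, ((hA₀m b₀).1 hb₀).1, ((hA₀m b₀).1 hb₀).2, k, hk, e⟩

section letters

variable {p : Fin 5 → G}

/-- `g` acts on the letters as `f` -/
def Acts (p : Fin 5 → G) (g : G) (f : Fin 5 → Fin 5) : Prop := ∀ i, g * p i * g⁻¹ = p (f i)

theorem Acts.mul {g g' : G} {f f' : Fin 5 → Fin 5} (h : Acts p g f) (h' : Acts p g' f') :
    Acts p (g * g') (fun i => f (f' i)) := by
  intro i
  have e : g * g' * p i * (g * g')⁻¹ = g * (g' * p i * g'⁻¹) * g⁻¹ := by group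
  rw [e, h' i, h (f' i)]

theorem Acts.comm {g : G} {f : Fin 5 → Fin 5} (h : Acts p g f) {i : Fin 5} (hi : f i = i) : g * p i = p i * g := by
  have h1 := h i
  rw [hi] at h1
  exact mul_inv_eq_iff_eq_mul.1 h1

theorem Acts.ne (inj : Function.Injective p) {g : G} {f : Fin 5 → Fin 5} (h : Acts p g f) {i : Fin 5} (hi : f i ≠ i) :
    g * p i ≠ p i * g := by
  intro h0
  apply hi
  apply inj
  rw [← h i, h0, mul_inv_cancel_right]

theorem Acts.mem {V : Subgroup G} (hV : V = closure (Set.range p)) {g : G} {f : Fin 5 → Fin 5} (h : Acts p g f)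
    (hf : ∀ i, f i = i) : g ∈ centralizer (V : Set G) := by
  rw [hV, centralizer_closure, mem_centralizer_iff]
  rintro _ ⟨i, rfl⟩
  exact (h.comm (hf i)).symm

theorem Acts.of_mem (comm : ∀ i j, p i * p j = p j * p i) {V : Subgroup G} (hV : V = closure (Set.range p)) {k : G}
    (hk : k ∈ V) : Acts p k id := by
  intro i
  have h1 : V ≤ centralizer ({p i} : Set G) := by
    rw [hV, closure_le]
    rintro _ ⟨j, rfl⟩
    exact mem_centralizer_singleton_iff.2 (comm j i)
  have h2 := mem_centralizer_singleton_iff.1 (h1 hk)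
  rw [h2, mul_inv_cancel_right]
  rfl

theorem swap {O V A : Subgroup G} {p : Fin 5 → G} (sq : ∀ i, p i * p i = 1) (comm : ∀ i j, p i * p j = p j * p i)
    (prod : p 4 = p 0 * p 1 * p 2 * p 3) (inj : Function.Injective p) (h4 : p 4 ≠ 1)
    (hV : V = closure (Set.range p)) (hVO : V ≤ O) (hA : IsElementaryAbelian 2 A) (hAO : A ≤ O)
    (hmax : ∀ B : Subgroup G, IsElementaryAbelian 2 B → B ≤ O → Nat.card B ≤ Nat.card A)
    (hact : ∀ g ∈ O, (∀ i, g * p i * g⁻¹ = p i) ∨ (∀ i, g * p i * g⁻¹ = p (Equiv.swap 0 2 i)) ∨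
      (∀ i, g * p i * g⁻¹ = p (Equiv.swap 1 3 i)) ∨
      (∀ i, g * p i * g⁻¹ = p ((Equiv.swap 0 2 * Equiv.swap 1 3 : Equiv.Perm (Fin 5)) i)))
    (hmv : ¬ A ≤ centralizer (V : Set G)) :
    ∃ A₁ : Subgroup G, ∃ a ∈ A₁, IsElementaryAbelian 2 A₁ ∧ A₁ ≤ O ∧ Nat.card A₁ = Nat.card A ∧
      ((∀ i, a * p i * a⁻¹ = p (Equiv.swap 0 2 i)) ∨ (∀ i, a * p i * a⁻¹ = p (Equiv.swap 1 3 i))) ∧
      ∀ b ∈ A₁, b ∈ centralizer (V : Set G) ∨ b * a ∈ centralizer (V : Set G) := by
  have hpV : ∀ i, p i ∈ V := fun i => by rw [hV]; exact subset_closure ⟨i, rfl⟩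
  have hact' : ∀ g ∈ O, Acts p g id ∨ Acts p g (Equiv.swap 0 2) ∨ Acts p g (Equiv.swap 1 3) ∨
      Acts p g ((Equiv.swap 0 2 * Equiv.swap 1 3 : Equiv.Perm (Fin 5))) := hact
  have hz : ∀ (c k : G), c ∈ V → k ∈ zpowers c → k ∈ V := fun c k hc hk => (zpowers_le.2 hc) hk
  by_cases h02 : ∃ a ∈ A, Acts p a (Equiv.swap 0 2)
  · obtain ⟨a, haA, ha⟩ := h02
    obtain ⟨A₁, haA₁, h1, h2, h3, h5⟩ := repl (a := a) (c := p 1) (hVO (hpV 1)) (sq 1) hA hAO hmax haA
      (ha.comm (by decide)) (by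
        intro b hb b' hb' hn hn'
        rcases hact' b (hAO hb) with h | h | h | h
        · exact absurd (h.comm rfl) hn
        · exact absurd (h.comm (by decide)) hn
        all_goals
          rcases hact' b' (hAO hb') with h' | h' | h' | h'
          · exact absurd (h'.comm rfl) hn'
          · exact absurd (h'.comm (by decide)) hn'
          · exact (h.mul h').comm (by decide)
          · exact (h.mul h').comm (by decide))
    refine ⟨A₁, a, haA₁, h1, h2, h3, Or.inl ha, fun b hb => ?_⟩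
    obtain ⟨b₀, hb₀, hb₀c, k, hk, rfl⟩ := h5 b hb
    have hkV := Acts.of_mem comm hV (hz _ k (hpV 1) hk)
    rcases hact' b₀ (hAO hb₀) with h | h | h | h
    · left
      exact (h.mul hkV).mem hV fun i => rfl
    · right
      exact ((h.mul hkV).mul ha).mem hV (by decide)
    · exact absurd hb₀c (h.ne inj (by decide))
    · exact absurd hb₀c (h.ne inj (by decide))
  by_cases h13 : ∃ a ∈ A, Acts p a (Equiv.swap 1 3)
  · obtain ⟨a, haA, ha⟩ := h13
    obtain ⟨A₁, haA₁, h1, h2, h3, h5⟩ := repl (a := a) (c := p 0) (hVO (hpV 0)) (sq 0) hA hAO hmax haA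
      (ha.comm (by decide)) (by
        intro b hb b' hb' hn hn'
        rcases hact' b (hAO hb) with h | h | h | h
        · exact absurd (h.comm rfl) hn
        rotate_left
        · exact absurd (h.comm (by decide)) hn
        all_goals
          rcases hact' b' (hAO hb') with h' | h' | h' | h'
          · exact absurd (h'.comm rfl) hn'
          · exact (h.mul h').comm (by decide)
          · exact absurd (h'.comm (by decide)) hn'
          · exact (h.mul h').comm (by decide))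
    refine ⟨A₁, a, haA₁, h1, h2, h3, Or.inr ha, fun b hb => ?_⟩
    obtain ⟨b₀, hb₀, hb₀c, k, hk, rfl⟩ := h5 b hb
    have hkV := Acts.of_mem comm hV (hz _ k (hpV 0) hk)
    rcases hact' b₀ (hAO hb₀) with h | h | h | h
    · left
      exact (h.mul hkV).mem hV fun i => rfl
    · exact absurd hb₀c (h.ne inj (by decide))
    · right
      exact ((h.mul hkV).mul ha).mem hV (by decide)
    · exact absurd hb₀c (h.ne inj (by decide))
  -- only `(0 2)(1 3)`
  exfalso
  push Not at h02 h13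
  have hA' : ∀ g ∈ A, Acts p g id ∨ Acts p g ((Equiv.swap 0 2 * Equiv.swap 1 3 : Equiv.Perm (Fin 5))) := by
    intro g hg
    rcases hact' g (hAO hg) with h | h | h | h
    · exact Or.inl h
    · exact absurd h (h02 g hg)
    · exact absurd h (h13 g hg)
    · exact Or.inr h
  obtain ⟨a, haA, haV⟩ := SetLike.not_le_iff_exists.1 hmv
  have ha : Acts p a ((Equiv.swap 0 2 * Equiv.swap 1 3 : Equiv.Perm (Fin 5))) :=
    (hA' a haA).resolve_left fun h => haV (h.mem hV fun i => rfl)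
  set A₀ := A ⊓ centralizer (V : Set G) with hA₀
  have hA₀c : ∀ b ∈ A₀, ∀ i, b * p i = p i * b := fun b hb i => (mem_centralizer_iff.1 hb.2 _ (hpV i)).symm
  have c1 : Nat.card A ≤ 2 * Nat.card A₀ := card_le_two_mul inf_le_left fun b hb b' hb' hn hn' => by
    have h1 : Acts p b ((Equiv.swap 0 2 * Equiv.swap 1 3 : Equiv.Perm (Fin 5))) :=
      (hA' b hb).resolve_left fun h => hn ⟨hb, h.mem hV fun i => rfl⟩
    have h2 : Acts p b' ((Equiv.swap 0 2 * Equiv.swap 1 3 : Equiv.Perm (Fin 5))) :=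
      (hA' b' hb').resolve_left fun h => hn' ⟨hb', h.mem hV fun i => rfl⟩
    exact ⟨mul_mem hb hb', (h1.mul h2).mem hV (by decide)⟩
  have hp0 : p 0 ∉ A := fun h0 => ha.ne inj (i := 0) (by decide) (elem_comm hA a haA _ h0)
  have hp1 : p 1 ∉ A := fun h0 => ha.ne inj (i := 1) (by decide) (elem_comm hA a haA _ h0)
  have hp01 : p 0 * p 1 ∉ A := by
    intro h0
    have h1 := elem_comm hA a haA _ h0
    have e1 : a * (p 0 * p 1) * a⁻¹ = p 2 * p 3 := by
      have e2 : a * (p 0 * p 1) * a⁻¹ = (a * p 0 * a⁻¹) * (a * p 1 * a⁻¹) := by group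
      rw [e2, ha 0, ha 1]
      rfl
    rw [h1, mul_inv_cancel_right] at e1
    apply h4
    rw [prod, mul_assoc (p 0 * p 1), ← e1]
    have h5 := sq 0
    have h6 := sq 1
    calc p 0 * p 1 * (p 0 * p 1) = (p 0 * p 0) * (p 1 * p 1) := by
          rw [mul_assoc, ← mul_assoc (p 1) (p 0), comm 1 0]; group
      _ = 1 := by rw [h5, h6, one_mul]
  -- `A₀ ⟨p 0⟩ ⟨p 1⟩`
  have hel0 : IsElementaryAbelian 2 (A₀ ⊔ zpowers (p 0)) := by
    refine isElementaryAbelian_sup (isElementaryAbelian_mono hA inf_le_left)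
      (isElementaryAbelian_zpowers (by rw [pow_two]; exact sq 0)) ?_
    rw [zpowers_le, mem_centralizer_iff]
    exact fun b hb => hA₀c b hb 0
  have hcm : A₀ ⊔ zpowers (p 0) ≤ centralizer ({p 1} : Set G) := by
    refine sup_le (fun b hb => mem_centralizer_singleton_iff.2 (hA₀c b hb 1)) ?_
    rw [zpowers_le, mem_centralizer_singleton_iff]
    exact comm 0 1
  have hel1 : IsElementaryAbelian 2 ((A₀ ⊔ zpowers (p 0)) ⊔ zpowers (p 1)) := by
    refine isElementaryAbelian_sup hel0 (isElementaryAbelian_zpowers (by rw [pow_two]; exact sq 1)) ?_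
    rw [zpowers_le, mem_centralizer_iff]
    exact fun b hb => mem_centralizer_singleton_iff.1 (hcm hb)
  have c2 := two_mul_card_le (H := A₀) (K := A₀ ⊔ zpowers (p 0)) le_sup_left (mem_sup_right (mem_zpowers _))
    fun h0 => hp0 h0.1
  have c3 := two_mul_card_le (H := A₀ ⊔ zpowers (p 0)) (K := (A₀ ⊔ zpowers (p 0)) ⊔ zpowers (p 1)) le_sup_left
    (mem_sup_right (mem_zpowers (p 1))) (by
      intro h0
      obtain ⟨b, hb, k, hk, e⟩ := mem_sup_comm (A := A₀) (B := zpowers (p 0)) (by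
        intro x hx y hy
        obtain ⟨n, rfl⟩ := mem_zpowers_iff.1 hy
        have h3 : Commute x (p 0) := hA₀c x hx 0
        exact (h3.zpow_right n).eq) h0
      have hk' : k = 1 ∨ k = p 0 := by
        obtain ⟨n, rfl⟩ := mem_zpowers_iff.1 hk
        have h5 : p 0 ^ (2 : ℤ) = 1 := by rw [zpow_ofNat, pow_two]; exact sq 0
        rcases Int.even_or_odd' n with ⟨m, rfl | rfl⟩
        · left; rw [zpow_mul, h5, one_zpow]
        · right; rw [zpow_add, zpow_mul, h5, one_zpow, one_mul, zpow_one]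
      rcases hk' with rfl | rfl
      · rw [mul_one] at e
        exact hp1 (e ▸ hb.1)
      · apply hp01
        rw [e, ← mul_assoc, ← hA₀c b hb 0, mul_assoc, sq 0, mul_one]
        exact hb.1)
  have c4 := hmax _ hel1 (sup_le (sup_le (inf_le_left.trans hAO) (zpowers_le.2 (hVO (hpV 0))))
    (zpowers_le.2 (hVO (hpV 1))))
  have c5 : 0 < Nat.card A₀ := Nat.card_pos
  omega

end letters

end Cfsg.Agent.Omega.NO3S.LightFive.TwoA
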