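import Cfsg.Agent.Omega.NTwo.Pos
import Cfsg.Agent.Omega.SQ1.FFOne
import Cfsg.Agent.Omega.NO3S.LightFive.TwoA
import Cfsg.Agent.Omega.NO3S.LightFive.Swap
import Cfsg.Agent.Omega.NO3S.TwoA.Off

/-!
# LightL (E), `n = 5`: TWO PAIRS, the frame over `p : Fin 5 → G` (helper411 #25060 (A))

`L` permutes the five involutions `p i` (`NTwo.Fv`), `V = ⟨p i⟩`, `D = C_G(12) ∩ C_G(34)`, `T ≤ L` a Sylow 2-subgroup of
`D`, `U ≥ V` elementary abelian, normalised by `C_G(p 4)`, `L ≤ Ls`, `C_D(v) ≤ Ls` for `v ∈ V ∖ ⟨12, 34⟩`, `N_D(T) ≤ Ls`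
and (1') for every `T`-minimal `R ≤ D`, `R ≰ Ls`.

* `Dt` : the frame;
* `Dt.T_act`, `Dt.exists_R`, `Dt.exists_l` : the action of `T`, the minimal `R`, `l ∈ N_L(Q)` inducing `(1 2)`;
* **`Dt.le`** : if `J(O₂(D))` does not centralise `V`, then `D ≤ Ls`.
-/

set_option autoImplicit false
set_option linter.unusedSectionVars false

namespace Cfsg.Agent.Omega.NO3S.LightFive.TwoA

open Subgroup Cfsg Cfsg.Agent.ZN Cfsg.Agent.ZN.ChoiceBase
open Cfsg.Agent.ZN.ChoiceSit (Syl syl_conj isPGroup_o2 le_o2 o2_cj o2_le_syl)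
open Cfsg.Agent.MinSimple.MinParabolic (IsMinPar)
open Cfsg.Agent.MinSimple.VModule (oddGen)
open Cfsg.Agent.Omega.NTwo (Fv nn aa mem_cent cm cc)
open Cfsg.Agent.Omega.SQ1.Bau (elem_comm elem_sq)

universe u

variable {G : Type u} [Group G]

/-- `D = C_G(12) ∩ C_G(34)` -/
abbrev DD (p : Fin 5 → G) : Subgroup G := centralizer ({nn p} : Set G) ⊓ centralizer ({aa p} : Set G)

/-- `V = ⟨p i⟩` -/
abbrev VV (p : Fin 5 → G) : Subgroup G := closure (Set.range p)

/-- **The frame of (A).** -/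
structure Dt [Finite G] (L Ls T U : Subgroup G) (p : Fin 5 → G) : Prop where
  fv : Fv L p
  cv : centralizer (VV p : Set G) ≤ L
  LLs : L ≤ Ls
  cen : ∀ i : Fin 5, i ≠ 4 → ∀ g ∈ DD p, g * p i = p i * g → g ∈ Ls
  syl : Syl T (DD p)
  TL : T ≤ L
  nT : ∀ g ∈ DD p, g ∈ normalizer (T : Set G) → g ∈ Ls
  Uc : ∀ u ∈ U, ∀ v ∈ U, u * v = v * u
  Us : ∀ u ∈ U, u * u = 1
  VU : VV p ≤ U
  nU : centralizer ({p 4} : Set G) ≤ normalizer (U : Set G)
  /-- (1') -/
  one : ∀ R : Subgroup G, IsMinPar T R → R ≤ DD p → ¬ R ≤ Ls →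
    ∀ M : Subgroup G, M ≤ U → (∀ X : Subgroup G, VV p ≤ X → R ≤ normalizer (X : Set G) → M ≤ X) →
      R ≤ normalizer (M : Set G) → M ≤ centralizer (o2 R : Set G) → oddGen R ≤ centralizer (M : Set G)

theorem mem_Zx {x y z : G} (hx : x * x = 1) (hy : y * y = 1) (hxy : x * y = y * x) (hz : z ∈ Zx x y) :
    z = 1 ∨ z = x ∨ z = y ∨ z = x * y := by
  have hxi : x⁻¹ = x := inv_eq_of_mul_eq_one_left hx
  have hyi : y⁻¹ = y := inv_eq_of_mul_eq_one_left hy
  induction hz using closure_induction_right with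
  | one => exact Or.inl rfl
  | mul_right w hw y' hy' ih =>
    rcases hy' with rfl | rfl
    · rcases ih with rfl | rfl | rfl | rfl
      · simp
      · simp [hx]
      · simp [hxy]
      · right; right; left
        rw [hxy, mul_assoc, hx, mul_one]
    · rcases ih with rfl | rfl | rfl | rfl
      · simp
      · simp
      · simp [hy]
      · right; left
        rw [mul_assoc, hy, mul_one]
  | mul_inv_cancel w hw y' hy' ih =>
    rcases hy' with rfl | rfl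
    · rw [hxi]
      rcases ih with rfl | rfl | rfl | rfl
      · simp
      · simp [hx]
      · simp [hxy]
      · right; right; left
        rw [hxy, mul_assoc, hx, mul_one]
    · rw [hyi]
      rcases ih with rfl | rfl | rfl | rfl
      · simp
      · simp
      · simp [hy]
      · right; left
        rw [mul_assoc, hy, mul_one]

theorem perm_cases : ∀ τ : Equiv.Perm (Fin 5), ((τ 0 = 0 ∧ τ 1 = 1) ∨ (τ 0 = 1 ∧ τ 1 = 0)) →
    ((τ 2 = 2 ∧ τ 3 = 3) ∨ (τ 2 = 3 ∧ τ 3 = 2)) →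
    τ = 1 ∨ τ = Equiv.swap 0 1 ∨ τ = Equiv.swap 2 3 ∨ τ = Equiv.swap 0 1 * Equiv.swap 2 3 := by
  decide +kernel

theorem swap_cases : ∀ i : Fin 5,
    Equiv.swap (1 : Fin 5) 2 (Equiv.swap 0 1 (Equiv.swap 1 2 i)) = Equiv.swap 0 2 i ∧
    Equiv.swap (1 : Fin 5) 2 (Equiv.swap 2 3 (Equiv.swap 1 2 i)) = Equiv.swap 1 3 i ∧
    Equiv.swap (1 : Fin 5) 2 (Equiv.swap 0 1 (Equiv.swap 2 3 (Equiv.swap 1 2 i))) =
      Equiv.swap 0 2 (Equiv.swap 1 3 i) := by
  decide +kernel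

theorem syl_cj' {T X : Subgroup G} (h : Syl T X) (g : G) : Syl (cj g T) (cj g X) := by
  refine ⟨cj_mono g h.1, isPGroup_cj g h.2.1, fun Q hQ hQ2 hTQ => ?_⟩
  have h1 : cj g⁻¹ Q ≤ X := by
    have := cj_mono g⁻¹ hQ
    rwa [cj_inv_cj] at this
  have h2 : T ≤ cj g⁻¹ Q := by
    have := cj_mono g⁻¹ hTQ
    rwa [cj_inv_cj] at this
  have h3 := h.2.2 _ h1 (isPGroup_cj g⁻¹ hQ2) h2
  rw [← h3, cj_cj_inv]

theorem pV {p : Fin 5 → G} (i : Fin 5) : p i ∈ VV p := subset_closure (Set.mem_range_self i)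

theorem nV {p : Fin 5 → G} : nn p ∈ VV p := mul_mem (pV 0) (pV 1)

theorem aV {p : Fin 5 → G} : aa p ∈ VV p := mul_mem (pV 2) (pV 3)

namespace Dt

variable [Finite G] {L Ls T U : Subgroup G} {p : Fin 5 → G} (h : Dt L Ls T U p)
include h

theorem V_comm {u v : G} (hu : u ∈ VV p) (hv : v ∈ VV p) : u * v = v * u := h.Uc u (h.VU hu) v (h.VU hv)

theorem V_sq {u : G} (hu : u ∈ VV p) : u * u = 1 := h.Us u (h.VU hu)

theorem four : nn p * aa p = p 4 := h.fv.prod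

theorem D_four : DD p ≤ centralizer ({p 4} : Set G) := by
  rintro g ⟨h1, h2⟩
  rw [← h.four]
  have h1' := mem_cent.1 h1
  have h2' := mem_cent.1 h2
  rw [mem_cent, cm, h1', h2']

theorem CV_D : centralizer (VV p : Set G) ≤ DD p := fun _ hg =>
  ⟨mem_centralizer_singleton_iff.2 (mem_centralizer_iff.1 hg _ nV).symm,
    mem_centralizer_singleton_iff.2 (mem_centralizer_iff.1 hg _ aV).symm⟩

theorem L_V {g v : G} (hg : g ∈ L) (hv : v ∈ VV p) : g * v * g⁻¹ ∈ VV p := by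
  obtain ⟨σ, hσ⟩ := h.fv.perm g hg
  have h1 : VV p ≤ (VV p).comap (MulAut.conj g).toMonoidHom := by
    rw [closure_le]
    rintro _ ⟨i, rfl⟩
    change g * p i * g⁻¹ ∈ VV p
    rw [hσ]
    exact pV _
  exact h1 hv

theorem L_CV {g c : G} (hg : g ∈ L) (hc : c ∈ centralizer (VV p : Set G)) :
    g * c * g⁻¹ ∈ centralizer (VV p : Set G) := by
  rw [mem_centralizer_iff] at hc ⊢
  intro v hv
  have h1 := h.L_V (inv_mem hg) hv
  rw [inv_inv] at h1
  have h2 := hc _ h1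
  calc v * (g * c * g⁻¹) = g * (g⁻¹ * v * g * c) * g⁻¹ := by group
    _ = g * (c * (g⁻¹ * v * g)) * g⁻¹ := by rw [h2]
    _ = g * c * g⁻¹ * v := by group

/-- `T` acts on the points as a subgroup of `⟨(0 1), (2 3)⟩`. -/
theorem T_act {t : G} (ht : t ∈ T) : ∃ τ : Equiv.Perm (Fin 5),
    (τ = 1 ∨ τ = Equiv.swap 0 1 ∨ τ = Equiv.swap 2 3 ∨ τ = Equiv.swap 0 1 * Equiv.swap 2 3) ∧
    ∀ i, t * p i * t⁻¹ = p (τ i) := by
  obtain ⟨τ, hτ⟩ := h.fv.perm t (h.TL ht)
  have e1 : p (τ 0) * p (τ 1) = p 0 * p 1 := by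
    rw [← hτ, ← hτ, ← cm]
    exact mem_cent.1 (h.syl.1 ht).1
  have e2 : p (τ 2) * p (τ 3) = p 2 * p 3 := by
    rw [← hτ, ← hτ, ← cm]
    exact mem_cent.1 (h.syl.1 ht).2
  refine ⟨τ, perm_cases τ (h.fv.pair_inj (fun e => absurd (τ.injective e) (by decide)) (by decide) e1)
    (h.fv.pair_inj (fun e => absurd (τ.injective e) (by decide)) (by decide) e2), hτ⟩

theorem o2T : o2 (DD p) ≤ T := o2_le_syl h.syl

/-- `l ∈ N_L(Q)` inducing `(1 2)` -/
theorem exists_l : ∃ l ∈ L, (∀ i, l * p i * l⁻¹ = p (Equiv.swap 1 2 i)) ∧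
    cj l (T ⊓ centralizer (VV p : Set G)) = T ⊓ centralizer (VV p : Set G) := by
  obtain ⟨l₀, hl₀, h0⟩ := h.fv.full (Equiv.swap 1 2)
  have hs : Syl (T ⊓ centralizer (VV p : Set G)) (centralizer (VV p : Set G)) :=
    SQ1.FFOne.syl_inf (T := T) (H := DD p ⊓ L)
      ⟨le_inf h.syl.1 h.TL, h.syl.2.1, fun Q hQ hQ2 hT => h.syl.2.2 Q (hQ.trans inf_le_left) hQ2 hT⟩
      (le_inf h.CV_D h.cv) (fun _ hg _ hc => h.L_CV hg.2 hc)
  have hs' := syl_cj' hs l₀
  have e0 : cj l₀ (centralizer (VV p : Set G)) = centralizer (VV p : Set G) :=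
    cj_eq_of_mem_normalizer (SN.TwoP.norm_of (fun r hr e he => h.L_CV hr he) hl₀)
  rw [e0] at hs'
  obtain ⟨c, hc, e1⟩ := syl_conj hs' hs
  refine ⟨c * l₀, mul_mem (h.cv hc) hl₀, fun i => ?_, by rw [← cj_cj]; exact e1⟩
  rw [← cc, h0, (mem_centralizer_iff.1 hc _ (pV _)).symm, mul_inv_cancel_right]

/-- **the minimal `R`** -/
theorem exists_R (hD : ¬ DD p ≤ Ls) : ∃ R : Subgroup G, IsMinPar T R ∧ R ≤ DD p ∧ ¬ R ≤ Ls ∧
    ∀ K : Subgroup G, T ≤ K → K < R → K ≤ Ls := by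
  classical
  obtain ⟨R, ⟨hTR, hRD, hR⟩, hmin⟩ := Set.exists_min_image {R : Subgroup G | T ≤ R ∧ R ≤ DD p ∧ ¬ R ≤ Ls}
    (fun R => Nat.card R) (Set.toFinite _) ⟨DD p, h.syl.1, le_rfl, hD⟩
  have hm : ∀ K : Subgroup G, T ≤ K → K < R → K ≤ Ls := by
    intro K hTK hKR
    by_contra hK
    have h1 := hmin K ⟨hTK, hKR.le.trans hRD, hK⟩
    have h2 := Subgroup.eq_of_le_of_card_ge hKR.le h1
    exact hKR.ne h2
  refine ⟨R, ?_, hRD, hR, hm⟩
  by_contra hp
  refine hR (MinSimple.MinParabolic.le_of_forall hTR (fun g hg => h.nT g (hRD hg.1) hg.2) fun K hK hKR => ?_)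
  refine hm K hK.le (lt_of_le_of_ne hKR ?_)
  rintro rfl
  exact hp hK

/-- the action of `O' = O₂(D)^l` -/
theorem O_act {l : G} (hl : ∀ i, l * p i * l⁻¹ = p (Equiv.swap 1 2 i)) {g : G} (hg : g ∈ cj l (o2 (DD p))) :
    (∀ i, g * p i * g⁻¹ = p i) ∨ (∀ i, g * p i * g⁻¹ = p (Equiv.swap 0 2 i)) ∨
      (∀ i, g * p i * g⁻¹ = p (Equiv.swap 1 3 i)) ∨
      (∀ i, g * p i * g⁻¹ = p ((Equiv.swap 0 2 * Equiv.swap 1 3 : Equiv.Perm (Fin 5)) i)) := by
  obtain ⟨τ, hτ, h1⟩ := h.T_act (h.o2T (mem_cj.1 hg))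
  have key : ∀ i, g * p i * g⁻¹ = p (Equiv.swap 1 2 (τ (Equiv.swap 1 2 i))) := by
    intro i
    have e0 : p i = l * p (Equiv.swap 1 2 i) * l⁻¹ := by rw [hl, Equiv.swap_apply_self]
    have e1 := h1 (Equiv.swap 1 2 i)
    calc g * p i * g⁻¹ = l * (l⁻¹ * g * l * p (Equiv.swap 1 2 i) * (l⁻¹ * g * l)⁻¹) * l⁻¹ := by
          rw [e0]; group
      _ = p (Equiv.swap 1 2 (τ (Equiv.swap 1 2 i))) := by rw [e1, hl]
  rcases hτ with rfl | rfl | rfl | rfl
  · left
    intro i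
    rw [key, Equiv.Perm.one_apply, Equiv.swap_apply_self]
  · right; left
    intro i
    rw [key, (swap_cases i).1]
  · right; right; left
    intro i
    rw [key, (swap_cases i).2.1]
  · right; right; right
    intro i
    rw [key, Equiv.Perm.mul_apply, (swap_cases i).2.2, Equiv.Perm.mul_apply]

/-- `U ≤ O₂(D)` -/
theorem U_le : U ≤ o2 (DD p) := by
  refine le_o2 ?_ (fun u hu => ?_) (h.D_four.trans h.nU)
  · exact fun u => ⟨1, Subtype.ext (by simpa [pow_two] using h.Us u u.2)⟩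
  · refine h.CV_D (mem_centralizer_iff.2 fun v hv => h.Uc v (h.VU hv) u hu)

theorem x1 : nn p ≠ 1 := h.fv.mul_ne_one (by decide)

theorem y1 : aa p ≠ 1 := h.fv.mul_ne_one (by decide)

theorem xy : nn p ≠ aa p := fun e => by
  rcases h.fv.pair_inj (a := 0) (b := 1) (c := 2) (d := 3) (by decide) (by decide) e with h1 | h1
  · exact absurd h1.1 (by decide)
  · exact absurd h1.1 (by decide)

theorem mem_Z {z : G} (hz : z ∈ Zx (nn p) (aa p)) : z = 1 ∨ z = nn p ∨ z = aa p ∨ z = p 4 := by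
  rw [← h.four]
  exact mem_Zx (h.V_sq nV) (h.V_sq aV) (h.V_comm nV aV) hz

/-- a point is in `⟨12, 34⟩` only if it is `p 4` -/
theorem p_not {i : Fin 5} (hi : i ≠ 4) : p i ∉ Zx (nn p) (aa p) := fun hz => by
  rcases h.mem_Z hz with h1 | h1 | h1 | h1
  · exact h.fv.ne i h1
  · exact h.fv.mul_ne (i := 0) (j := 1) (by decide) i h1.symm
  · exact h.fv.mul_ne (i := 2) (j := 3) (by decide) i h1.symm
  · exact hi (h.fv.inj h1)

/-- a pair is in `⟨12, 34⟩` only if it is `01` or `23` -/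
theorem pp_not {i j : Fin 5} (hij : i ≠ j) (h01 : ¬ ((i = 0 ∧ j = 1) ∨ (i = 1 ∧ j = 0)))
    (h23 : ¬ ((i = 2 ∧ j = 3) ∨ (i = 3 ∧ j = 2))) : p i * p j ∉ Zx (nn p) (aa p) := fun hz => by
  rcases h.mem_Z hz with h1 | h1 | h1 | h1
  · exact h.fv.mul_ne_one hij h1
  · exact h01 (h.fv.pair_inj hij (by decide) h1)
  · exact h23 (h.fv.pair_inj hij (by decide) h1)
  · exact h.fv.mul_ne hij 4 h1

theorem T_zero {t : G} (ht : t ∈ T) : t * p 0 * t⁻¹ * (p 0)⁻¹ = 1 ∨ t * p 0 * t⁻¹ * (p 0)⁻¹ = nn p := by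
  obtain ⟨τ, hτ, h1⟩ := h.T_act ht
  rw [h1, h.fv.pinv]
  rcases hτ with rfl | rfl | rfl | rfl
  · left; exact h.fv.sq 0
  · right; exact h.fv.comm 1 0
  · left; exact h.fv.sq 0
  · right; exact h.fv.comm 1 0

theorem T_one {t : G} (ht : t ∈ T) : t * p 1 * t⁻¹ * (p 1)⁻¹ = 1 ∨ t * p 1 * t⁻¹ * (p 1)⁻¹ = nn p := by
  obtain ⟨τ, hτ, h1⟩ := h.T_act ht
  rw [h1, h.fv.pinv]
  rcases hτ with rfl | rfl | rfl | rfl
  · left; exact h.fv.sq 1
  · right; rfl
  · left; exact h.fv.sq 1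
  · right; rfl

theorem T_two {t : G} (ht : t ∈ T) : t * p 2 * t⁻¹ * (p 2)⁻¹ = 1 ∨ t * p 2 * t⁻¹ * (p 2)⁻¹ = aa p := by
  obtain ⟨τ, hτ, h1⟩ := h.T_act ht
  rw [h1, h.fv.pinv]
  rcases hτ with rfl | rfl | rfl | rfl
  · left; exact h.fv.sq 2
  · left; exact h.fv.sq 2
  · right; exact h.fv.comm 3 2
  · right; exact h.fv.comm 3 2

theorem T_three {t : G} (ht : t ∈ T) : t * p 3 * t⁻¹ * (p 3)⁻¹ = 1 ∨ t * p 3 * t⁻¹ * (p 3)⁻¹ = aa p := by
  obtain ⟨τ, hτ, h1⟩ := h.T_act ht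
  rw [h1, h.fv.pinv]
  rcases hτ with rfl | rfl | rfl | rfl
  · left; exact h.fv.sq 3
  · left; exact h.fv.sq 3
  · right; rfl
  · right; rfl

/-- the count for `O' = O₂(D)^l` -/
theorem of_swap {l a : G} {A : Subgroup G} (hlL : l ∈ L) (hl : ∀ i, l * p i * l⁻¹ = p (Equiv.swap 1 2 i))
    (hlQ : cj l (T ⊓ centralizer (VV p : Set G)) = T ⊓ centralizer (VV p : Set G))
    {R : Subgroup G} (hR : IsMinPar T R) (hRD : R ≤ DD p) (hRL : ¬ R ≤ Ls)
    (hRm : ∀ K : Subgroup G, T ≤ K → K < R → K ≤ Ls)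
    (aA : a ∈ A) (hA : IsElementaryAbelian 2 A) (hAO : A ≤ cj l (o2 (DD p)))
    (hmax : ∀ B : Subgroup G, IsElementaryAbelian 2 B → B ≤ cj l (o2 (DD p)) → Nat.card B ≤ Nat.card A)
    (idx : ∀ b ∈ A, b ∈ centralizer (VV p : Set G) ∨ b * a ∈ centralizer (VV p : Set G))
    {i j : Fin 5} (hij : i ≠ j) (hi4 : i ≠ 4) (hj4 : j ≠ 4)
    (h01 : (i = 0 ∧ j = 2) ∨ (i = 1 ∧ j = 3))
    (act : ∀ k, a * p k * a⁻¹ = p (Equiv.swap i j k)) : False := by
  have hU : U ≤ cj l (o2 (DD p)) := by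
    have h1 : cj l U = U := by
      refine cj_eq_of_mem_normalizer (h.nU ?_)
      rw [mem_cent, hl]
      rfl
    rw [← h1]
    exact cj_mono l h.U_le
  have hcT : cj l (centralizer (VV p : Set G)) = centralizer (VV p : Set G) :=
    cj_eq_of_mem_normalizer (SN.TwoP.norm_of (fun r hr e he => h.L_CV hr he) hlL)
  have hOT : cj l (o2 (DD p)) ≤ cj l T := cj_mono l h.o2T
  have hO4 : cj l (o2 (DD p)) ≤ centralizer ({p 4} : Set G) := by
    intro g hg
    have h1 := h.D_four (ChoiceSit.o2_le _ (mem_cj.1 hg))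
    rw [mem_cent] at h1 ⊢
    have h2 : p 4 = l * p 4 * l⁻¹ := by rw [hl]; rfl
    calc g * p 4 * g⁻¹ = l * (l⁻¹ * g * l * p 4 * (l⁻¹ * g * l)⁻¹) * l⁻¹ := by
          conv_lhs => rw [h2]
          group
      _ = p 4 := by rw [h1]; exact h2.symm
  have hQn : ∀ g ∈ cj l (o2 (DD p)), ∀ t ∈ T ⊓ centralizer (VV p : Set G),
      g * t * g⁻¹ ∈ T ⊓ centralizer (VV p : Set G) := by
    intro g hg t ht
    have h1 := mem_cj.1 (hOT hg)
    have h2 : l⁻¹ * t * l ∈ T ⊓ centralizer (VV p : Set G) := by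
      rw [← hlQ] at ht
      exact mem_cj.1 ht
    have h3 : (l⁻¹ * g * l) * (l⁻¹ * t * l) * (l⁻¹ * g * l)⁻¹ ∈ T ⊓ centralizer (VV p : Set G) :=
      ⟨T.mul_mem (T.mul_mem h1 h2.1) (T.inv_mem h1), h.L_CV (h.TL h1) h2.2⟩
    have h4 : g * t * g⁻¹ ∈ cj l (T ⊓ centralizer (VV p : Set G)) := by
      rw [mem_cj]
      have e : l⁻¹ * (g * t * g⁻¹) * l = (l⁻¹ * g * l) * (l⁻¹ * t * l) * (l⁻¹ * g * l)⁻¹ := by group
      rw [e]
      exact h3
    rwa [hlQ] at h4
  have hA0 : A ⊓ centralizer (VV p : Set G) ≤ T := by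
    intro g hg
    have h1 : g ∈ cj l T ⊓ cj l (centralizer (VV p : Set G)) := ⟨hOT (hAO hg.1), by rw [hcT]; exact hg.2⟩
    rw [← cj_inf, hlQ] at h1
    exact h1.1
  have hpp : p j * p i = p i * p j := h.fv.comm _ _
  have hcV : ∀ v ∈ VV p, a * v * a⁻¹ = v ∨ a * v * a⁻¹ = v * (p i * p j) := by
    have hm : p i * p j ∈ VV p := mul_mem (pV _) (pV _)
    intro v hv
    induction hv using closure_induction with
    | mem x hx =>
      obtain ⟨k, rfl⟩ := hx
      rw [act]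
      by_cases hki : k = i
      · subst hki
        right
        rw [Equiv.swap_apply_left, ← mul_assoc, h.fv.sq, one_mul]
      · by_cases hkj : k = j
        · subst hkj
          right
          rw [Equiv.swap_apply_right, ← hpp, ← mul_assoc, h.fv.sq, one_mul]
        · left
          rw [Equiv.swap_apply_of_ne_of_ne hki hkj]
    | one => left; group
    | mul x y hx hy ihx ihy =>
      rw [cm]
      have hym : y * (p i * p j) = (p i * p j) * y := h.V_comm hy hm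
      rcases ihx with e1 | e1 <;> rcases ihy with e2 | e2 <;> rw [e1, e2]
      · left; rfl
      · right; rw [mul_assoc]
      · right; rw [mul_assoc, ← hym, mul_assoc]
      · left
        rw [hym, mul_assoc x, ← mul_assoc (p i * p j) (p i * p j), h.V_sq hm, one_mul]
    | inv x hx ih =>
      have hxi : x⁻¹ = x := inv_eq_of_mul_eq_one_left (h.V_sq hx)
      rw [hxi]
      exact ih
  have hof : TwoA.Of (VV p) (cj l (o2 (DD p))) A a (p i * p j) :=
    { elem := hA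
      le := hAO
      max := hmax
      Vel := ⟨⟨⟨fun x y => Subtype.ext (h.V_comm x.2 y.2)⟩⟩, fun x hx => by rw [pow_two]; exact h.V_sq hx⟩
      VO := h.VU.trans hU
      aA := aA
      nV := ⟨p i, pV i, fun e => hij (h.fv.inj (by
        rw [← Equiv.swap_apply_left i j, ← act, e, mul_inv_cancel_right]))⟩
      pV := mul_mem (pV _) (pV _)
      cV := hcV
      two := fun b hb hbc => by
        have h1 := (idx b hb).resolve_left hbc
        have h2 : a⁻¹ * b = b * a := by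
          rw [inv_eq_of_mul_eq_one_left (show a * a = 1 by rw [← pow_two]; exact elem_sq hA a aA), elem_comm hA a aA b hb]
        rw [h2]
        exact h1 }
  have hUel : ∀ X : Subgroup G, X ≤ U → IsElementaryAbelian 2 X := fun X hX =>
    ⟨⟨⟨fun x y => Subtype.ext (h.Uc x (hX x.2) y (hX y.2))⟩⟩, fun x hx => by rw [pow_two]; exact h.Us x (hX hx)⟩
  have hgen : VV p ≤ closure {nn p, aa p, p i, p j} := by
    have hx : nn p ∈ closure {nn p, aa p, p i, p j} := subset_closure (by simp)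
    have hy : aa p ∈ closure {nn p, aa p, p i, p j} := subset_closure (by simp)
    have hi : p i ∈ closure {nn p, aa p, p i, p j} := subset_closure (by simp)
    have hj : p j ∈ closure {nn p, aa p, p i, p j} := subset_closure (by simp)
    have h4 : p 4 ∈ closure {nn p, aa p, p i, p j} := by
      rw [← h.four]
      exact mul_mem hx hy
    have hP : ∀ k, p k ∈ closure {nn p, aa p, p i, p j} := by
      rcases h01 with ⟨rfl, rfl⟩ | ⟨rfl, rfl⟩
      · have h1 : p 1 = p 0 * nn p := by rw [nn, ← mul_assoc, h.fv.sq, one_mul]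
        have h3 : p 3 = p 2 * aa p := by rw [aa, ← mul_assoc, h.fv.sq, one_mul]
        intro k
        fin_cases k
        · exact hi
        · change p 1 ∈ _
          rw [h1]; exact mul_mem hi hx
        · exact hj
        · change p 3 ∈ _
          rw [h3]; exact mul_mem hj hy
        · exact h4
      · have h1 : p 0 = nn p * p 1 := by rw [nn, mul_assoc, h.fv.sq, mul_one]
        have h3 : p 2 = aa p * p 3 := by rw [aa, mul_assoc, h.fv.sq, mul_one]
        intro k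
        fin_cases k
        · change p 0 ∈ _
          rw [h1]; exact mul_mem hx hi
        · exact hi
        · change p 2 ∈ _
          rw [h3]; exact mul_mem hy hj
        · exact hj
        · exact h4
    rw [closure_le]
    rintro _ ⟨k, rfl⟩
    exact hP k
  have hax : a * nn p * a⁻¹ = p i * p j * nn p := by
    rw [nn, cm, act, act]
    rcases h01 with ⟨rfl, rfl⟩ | ⟨rfl, rfl⟩
    · change p 2 * p 1 = p 0 * p 2 * (p 0 * p 1)
      symm
      calc p 0 * p 2 * (p 0 * p 1) = p 2 * p 0 * (p 0 * p 1) := by rw [h.fv.comm 0 2]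
        _ = p 2 * (p 0 * p 0) * p 1 := by group
        _ = p 2 * p 1 := by rw [h.fv.sq, mul_one]
    · change p 0 * p 3 = p 1 * p 3 * (p 0 * p 1)
      symm
      calc p 1 * p 3 * (p 0 * p 1) = p 3 * p 1 * (p 1 * p 0) := by rw [h.fv.comm 1 3, h.fv.comm 0 1]
        _ = p 3 * (p 1 * p 1) * p 0 := by group
        _ = p 0 * p 3 := by rw [h.fv.sq, mul_one, h.fv.comm]
  have hay : a * aa p * a⁻¹ = p i * p j * aa p := by
    rw [aa, cm, act, act]
    rcases h01 with ⟨rfl, rfl⟩ | ⟨rfl, rfl⟩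
    · change p 0 * p 3 = p 0 * p 2 * (p 2 * p 3)
      symm
      calc p 0 * p 2 * (p 2 * p 3) = p 0 * (p 2 * p 2) * p 3 := by group
        _ = p 0 * p 3 := by rw [h.fv.sq, mul_one]
    · change p 2 * p 1 = p 1 * p 3 * (p 2 * p 3)
      symm
      calc p 1 * p 3 * (p 2 * p 3) = p 1 * p 3 * (p 3 * p 2) := by rw [h.fv.comm 2 3]
        _ = p 1 * (p 3 * p 3) * p 2 := by group
        _ = p 2 * p 1 := by rw [h.fv.sq, mul_one, h.fv.comm]
  have hTi : ∀ t ∈ T, t * p i * t⁻¹ * (p i)⁻¹ = 1 ∨ t * p i * t⁻¹ * (p i)⁻¹ = nn p := by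
    intro t ht
    rcases h01 with ⟨rfl, -⟩ | ⟨rfl, -⟩
    · exact h.T_zero ht
    · exact h.T_one ht
  have hTj : ∀ t ∈ T, t * p j * t⁻¹ * (p j)⁻¹ = 1 ∨ t * p j * t⁻¹ * (p j)⁻¹ = aa p := by
    intro t ht
    rcases h01 with ⟨-, rfl⟩ | ⟨-, rfl⟩
    · exact h.T_two ht
    · exact h.T_three ht
  have hiZ := h.p_not hi4
  have hjZ := h.p_not hj4
  have hwZ : p i * p j ∉ Zx (nn p) (aa p) := by
    rcases h01 with ⟨rfl, rfl⟩ | ⟨rfl, rfl⟩
    · exact h.pp_not (by decide) (by decide) (by decide)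
    · exact h.pp_not (by decide) (by decide) (by decide)
  have haO := hAO aA
  have hPr : Pr Ls T R U (VV p) A (nn p) (aa p) (p i) (p j) a :=
    { T2 := h.syl.2.1
      syl := ⟨hR.le, h.syl.2.1, fun Q hQ hQ2 hT => h.syl.2.2 Q (hQ.trans hRD) hQ2 hT⟩
      par := hR
      TLs := h.TL.trans h.LLs
      nR := hRL
      min := hRm
      nrm := fun r hr hrn => h.nT r (hRD hr) hrn
      Uc := h.Uc
      Us := h.Us
      RU := fun r hr u hu => (mem_normalizer_iff.1 (h.nU (h.D_four (hRD hr))) u).1 hu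
      VU := h.VU
      xV := nV
      yV := aV
      w₁V := pV i
      w₂V := pV j
      gen := hgen
      x1 := h.x1
      y1 := h.y1
      xy := h.xy
      w₁Z := hiZ
      w₂Z := hjZ
      wZ := hwZ
      Rx := fun r hr => mem_centralizer_singleton_iff.1 (hRD hr).1
      Ry := fun r hr => mem_centralizer_singleton_iff.1 (hRD hr).2
      Tw₁ := hTi
      Tw₂ := hTj
      mx := fun v hv g hg hgv => by
        rcases hv with rfl | rfl
        · exact h.cen i hi4 g (hRD hg) hgv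
        · exact h.cen j hj4 g (hRD hg) hgv
      one := h.one R hR hRD hRL
      aA := aA
      Ac := fun b hb c hc => elem_comm hA b hb c hc
      As := fun b hb => by rw [← pow_two]; exact elem_sq hA b hb
      A0T := hA0
      idx := idx
      aU := fun u hu => (mem_normalizer_iff.1 (h.nU (hO4 haO)) u).1 hu
      aT := fun t ht htc => (hQn a haO t ⟨ht, htc⟩).1
      aw₁ := by rw [act, Equiv.swap_apply_left]
      aw₂ := by rw [act, Equiv.swap_apply_right]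
      ax := hax
      ay := hay
      best := fun X hX hVX => TwoA.count hA hAO (hUel X hX) (hX.trans hU) hmax
      best₀ := fun X hX hVX => hof.count0 (hUel X hX) hVX (hX.trans hU) }
  exact hPr.false_of

/-- **TWO PAIRS, (A) of #25060**: if `J(O₂(D))` does not centralise `V`, then `D ≤ Ls`. -/
theorem le (hJ : ¬ jj (o2 (DD p)) ≤ centralizer (VV p : Set G)) : DD p ≤ Ls := by
  by_contra hD
  obtain ⟨R, hR, hRD, hRL, hRm⟩ := h.exists_R hD
  obtain ⟨l, hlL, hl, hlQ⟩ := h.exists_l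
  obtain ⟨A, hA, hAV⟩ : ∃ A ∈ AA (o2 (DD p)), ¬ A ≤ centralizer (VV p : Set G) := by
    by_contra hcon
    push Not at hcon
    exact hJ (by rw [jj_eq]; exact sSup_le hcon)
  have hA' := cj_mem_AA l hA
  have hcT : cj l (centralizer (VV p : Set G)) = centralizer (VV p : Set G) :=
    cj_eq_of_mem_normalizer (SN.TwoP.norm_of (fun r hr e he => h.L_CV hr he) hlL)
  have hU : VV p ≤ cj l (o2 (DD p)) := by
    have h1 : cj l (VV p) = VV p :=
      cj_eq_of_mem_normalizer (SN.TwoP.norm_of (fun r hr e he => h.L_V hr he) hlL)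
    rw [← h1]
    exact cj_mono l (h.VU.trans h.U_le)
  obtain ⟨A₁, a, ha, hA₁, hA₁O, hcard, hact, hidx⟩ := swap h.fv.sq h.fv.comm
    (by rw [← h.fv.prod, ← mul_assoc]) h.fv.inj (h.fv.ne 4) rfl hU hA'.1 hA'.2.1 hA'.2.2
    (fun g hg => h.O_act hl hg) (fun hle => hAV (by
      have h2 := cj_mono l⁻¹ hle
      rw [cj_inv_cj, ← hcT, cj_inv_cj] at h2
      exact h2))
  have hmax : ∀ B : Subgroup G, IsElementaryAbelian 2 B → B ≤ cj l (o2 (DD p)) → Nat.card B ≤ Nat.card A₁ := by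
    rw [hcard]
    exact hA'.2.2
  rcases hact with hact | hact
  · exact h.of_swap hlL hl hlQ hR hRD hRL hRm ha hA₁ hA₁O hmax hidx (i := 0) (j := 2) (by decide) (by decide)
      (by decide) (Or.inl ⟨rfl, rfl⟩) hact
  · exact h.of_swap hlL hl hlQ hR hRD hRL hRm ha hA₁ hA₁O hmax hidx (i := 1) (j := 3) (by decide) (by decide)
      (by decide) (Or.inr ⟨rfl, rfl⟩) hact

end Dt

end Cfsg.Agent.Omega.NO3S.LightFive.TwoA
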