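import Cfsg.Agent.Omega.Node.SymG
import Cfsg.Agent.Omega.NO3S.ESym.Frame
import Cfsg.Agent.Omega.NO3S.Sym.Light

/-!
# LightL (E), `n = 5` (heads helper755, helper807): from a local group over `D`, `C_L(n)`, `C_L(a)` to `NLoc (KZ B ZJ)`

`V = V_P` = even subsets of five letters, `p 4 = z`, `n = nn p = p 0 p 1`, `a = aa p = p 2 p 3`, `(B, ZJ)` any level.

* `exists_perm` : `N_G(V)` permutes the heavy vectors;
* `exists_swap` : some `s ∈ S` induces `(0 1)` or `(2 3)`;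
* `mem_ZJ`, `B_eq`, `cent_ZJ` : `ZJ = {1, n, a, z}`, `B = T = C_S(n)`;
* `Z_cases`, `L_le_of_nn`, `L_le_of_aa` : the two blocks;
* `KZ_le`, `false_of_local`.
-/

set_option autoImplicit false
set_option linter.unusedSectionVars false
set_option linter.unusedVariables false

namespace Cfsg.Agent.Omega.NO3S.LightFive

open Subgroup Cfsg Cfsg.Agent.ZN Cfsg.Agent.ZN.ChoiceBase Cfsg.Agent.ZN.ChoiceSit
open Cfsg.Agent.Omega.NTwo
open Cfsg.Agent.Omega.NO3S.Sym.Exit (Five)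
open Cfsg.Agent.Omega.NO3S.Sym.Light (FiveL)
open Cfsg.Agent.Omega.Node.SymG (MulSG)
open Cfsg.Agent.Omega.Node.MultiOf (KZ NLoc FBl)
open Cfsg.Agent.Omega.NO3S.ESym (UniI)
open Cfsg.Agent.Omega.OM.Uni (FB)
open Cfsg.Agent.Omega.OM.LevD (LB)

universe u

variable {G : Type u} [Group G] [Finite G] {S : Sylow 2 G} {P : Subgroup G} {p : Fin 5 → G}

/-! ### Permutations -/

section perm

variable (h : FiveL S P p)
include h

/-- an element of `N_G(V)` permutes the heavy vectors -/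
theorem exists_perm {g : G} (hg : g ∈ normalizer (zl (S : Subgroup G) P : Set G)) :
    ∃ σ : Equiv.Perm (Fin 5), ∀ i, g * p i * g⁻¹ = p (σ i) := by
  have key : ∀ i, ∃ j, g * p i * g⁻¹ = p j := by
    intro i
    have h1 : g * p i * g⁻¹ ∈ zl (S : Subgroup G) P := (mem_normalizer_iff.1 hg _).1 (h.p_mem i)
    rcases h.elts h1 with e | ⟨j, e⟩ | ⟨j, k, hjk, e⟩
    · exfalso
      apply h.std.ne i
      calc p i = g⁻¹ * (g * p i * g⁻¹) * g := by group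
        _ = 1 := by rw [e]; group
    · exact ⟨j, e⟩
    · exfalso
      obtain ⟨x, -, hx⟩ := h.heavy i
      obtain ⟨y, -, hy⟩ := h.lights hjk
      apply h.not_conj (y⁻¹ * g * x)
      calc y⁻¹ * g * x * p 4 * (y⁻¹ * g * x)⁻¹ = y⁻¹ * (g * (x * p 4 * x⁻¹) * g⁻¹) * y := by group
        _ = y⁻¹ * (p j * p k) * y := by rw [hx, e]
        _ = nn p := by rw [← hy]; group
  choose f hf using key
  have hinj : Function.Injective f := by
    intro i j hij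
    apply h.std.inj
    have h1 : g * p i * g⁻¹ = g * p j * g⁻¹ := by rw [hf, hf, hij]
    exact conj_inj h1
  exact ⟨Equiv.ofBijective f (Finite.injective_iff_bijective.1 hinj), hf⟩

/-- an element of `S` with its permutation -/
theorem perm_S {s : G} (hs : s ∈ (S : Subgroup G)) :
    ∃ σ : Equiv.Perm (Fin 5), (∀ i, s * p i * s⁻¹ = p (σ i)) ∧ σ 4 = 4 ∧
      ((σ 0 = 0 ∧ σ 1 = 1) ∨ (σ 0 = 1 ∧ σ 1 = 0) ∨ (σ 0 = 2 ∧ σ 1 = 3) ∨ (σ 0 = 3 ∧ σ 1 = 2)) := by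
  obtain ⟨σ, hσ⟩ := h.std.perm s (h.std.le hs)
  refine ⟨σ, hσ, ?_, ?_⟩
  · have h1 := h.std.fix s hs
    rw [hσ] at h1
    exact h.std.inj h1
  · rcases h.std.part s hs with h1 | h1
    · rw [cm, hσ, hσ] at h1
      rcases h.std.pair_inj (fun e => absurd (σ.injective e) (by decide)) (by decide) h1 with h2 | h2
      · exact Or.inl h2
      · exact Or.inr (Or.inl h2)
    · rw [cm, hσ, hσ] at h1
      rcases h.std.pair_inj (fun e => absurd (σ.injective e) (by decide)) (by decide) h1 with h2 | h2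
      · exact Or.inr (Or.inr (Or.inl h2))
      · exact Or.inr (Or.inr (Or.inr h2))

omit h [Finite G] in
theorem key_swap : ∀ τ σ : Equiv.Perm (Fin 5), σ = τ * Equiv.swap 0 1 * τ⁻¹ → σ 4 = 4 →
    ((σ 0 = 0 ∧ σ 1 = 1) ∨ (σ 0 = 1 ∧ σ 1 = 0) ∨ (σ 0 = 2 ∧ σ 1 = 3) ∨ (σ 0 = 3 ∧ σ 1 = 2)) →
    σ = Equiv.swap 0 1 ∨ σ = Equiv.swap 2 3 := by
  intro τ
  have key : ∀ τ : Equiv.Perm (Fin 5), (fun σ : Equiv.Perm (Fin 5) => σ 4 = 4 →
    ((σ 0 = 0 ∧ σ 1 = 1) ∨ (σ 0 = 1 ∧ σ 1 = 0) ∨ (σ 0 = 2 ∧ σ 1 = 3) ∨ (σ 0 = 3 ∧ σ 1 = 2)) →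
    σ = Equiv.swap 0 1 ∨ σ = Equiv.swap 2 3) (τ * Equiv.swap 0 1 * τ⁻¹) := by decide +kernel
  rintro σ rfl
  exact key τ

/-- some element of `S` induces `(0 1)` or `(2 3)` -/
theorem exists_swap : ∃ s ∈ (S : Subgroup G), (∀ i, s * p i * s⁻¹ = p (Equiv.swap 0 1 i)) ∨
    (∀ i, s * p i * s⁻¹ = p (Equiv.swap 2 3 i)) := by
  have hp2 : Fact (Nat.Prime 2) := ⟨Nat.prime_two⟩
  obtain ⟨g, hg, hgσ⟩ := h.std.full (Equiv.swap 0 1)
  -- a 2-element inducing `(0 1)`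
  obtain ⟨w, hwP, hwσ, hw2⟩ : ∃ w ∈ P, (∀ i, w * p i * w⁻¹ = p (Equiv.swap 0 1 i)) ∧ IsPGroup 2 (zpowers w) := by
    obtain ⟨m, hm, a, ha⟩ : ∃ m, Odd m ∧ ∃ a, orderOf g = 2 ^ a * m := by
      have h0 : orderOf g ≠ 0 := (orderOf_pos g).ne'
      obtain ⟨a, m, hm, e⟩ := Nat.exists_eq_two_pow_mul_odd h0
      exact ⟨m, hm, a, e⟩
    have hpow : ∀ k : ℕ, ∀ i, g ^ k * p i * (g ^ k)⁻¹ = p ((Equiv.swap 0 1 ^ k : Equiv.Perm (Fin 5)) i) := by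
      intro k
      induction k with
      | zero => intro i; simp
      | succ k ih =>
        intro i
        calc g ^ (k + 1) * p i * (g ^ (k + 1))⁻¹ = g ^ k * (g * p i * g⁻¹) * (g ^ k)⁻¹ := by
              rw [pow_succ]; group
          _ = _ := by rw [hgσ, ih, pow_succ, Equiv.Perm.mul_apply]
    refine ⟨g ^ m, pow_mem hg m, ?_, ?_⟩
    · obtain ⟨b, rfl⟩ := hm
      have e : (Equiv.swap 0 1 ^ (2 * b + 1) : Equiv.Perm (Fin 5)) = Equiv.swap 0 1 := by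
        rw [pow_succ, pow_mul, sq, Equiv.swap_mul_self, one_pow, one_mul]
      intro i
      rw [hpow, e]
    · have e : orderOf (g ^ m) = 2 ^ a := by
        rw [orderOf_pow, ha, Nat.gcd_eq_right (Dvd.intro_left _ rfl)]
        exact Nat.mul_div_cancel _ hm.pos
      rw [IsPGroup.iff_card]
      exact ⟨a, by rw [Nat.card_zpowers, e]⟩
  -- into `S`
  obtain ⟨x, hx, hxS⟩ : ∃ x ∈ P, x * w * x⁻¹ ∈ (S : Subgroup G) := by
    have hsyl : Syl (S : Subgroup G) P := by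
      refine ⟨h.std.le, S.isPGroup', fun Q _ hQ h2 => ?_⟩
      exact S.is_maximal' hQ h2
    obtain ⟨R, hR, hwR⟩ := exists_syl (X := P) hw2 (zpowers_le.2 hwP)
    obtain ⟨x, hx, e⟩ := syl_conj hR hsyl
    refine ⟨x, hx, ?_⟩
    rw [← e]
    exact ⟨w, hwR (mem_zpowers w), rfl⟩
  obtain ⟨τ, hτ⟩ := h.std.perm x hx
  obtain ⟨σ, hσ, h4, h01⟩ := perm_S h hxS
  have hc : ∀ i, x * w * x⁻¹ * p i * (x * w * x⁻¹)⁻¹ = p ((τ * Equiv.swap 0 1 * τ⁻¹ : Equiv.Perm (Fin 5)) i) := by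
    intro i
    have e1 : x⁻¹ * p i * x = p (τ⁻¹ i) := by
      have h1 := hτ (τ⁻¹ i)
      have h2 : τ (τ⁻¹ i) = i := τ.apply_symm_apply i
      rw [h2] at h1
      rw [← h1]; group
    calc x * w * x⁻¹ * p i * (x * w * x⁻¹)⁻¹ = x * (w * (x⁻¹ * p i * x) * w⁻¹) * x⁻¹ := by group
      _ = _ := by rw [e1, hwσ, hτ]; rfl
  have e : σ = τ * Equiv.swap 0 1 * τ⁻¹ := by
    ext i
    exact congrArg _ (h.std.inj ((hσ i).symm.trans (hc i)))
  rcases key_swap τ σ e h4 h01 with h5 | h5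
  · exact ⟨_, hxS, Or.inl fun i => by rw [hσ, h5]⟩
  · exact ⟨_, hxS, Or.inr fun i => by rw [hσ, h5]⟩

end perm

/-! ### `ZJ` -/

section zj

theorem key_fix : ∀ β : Equiv.Perm (Fin 5), β 4 = 4 →
    ((β 0 = 0 ∧ β 1 = 1) ∨ (β 0 = 1 ∧ β 1 = 0) ∨ (β 0 = 2 ∧ β 1 = 3) ∨ (β 0 = 3 ∧ β 1 = 2)) →
    ∀ a c : Fin 5, (a = 0 ∨ a = 1) → (c = 2 ∨ c = 3) → β a = a → β c = c → β = 1 := by
  decide +kernel

theorem key_pair1 : ∀ β : Equiv.Perm (Fin 5), ∀ a c : Fin 5, (β 4 = 4 ∧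
    ((β 0 = 0 ∧ β 1 = 1) ∨ (β 0 = 1 ∧ β 1 = 0) ∨ (β 0 = 2 ∧ β 1 = 3) ∨ (β 0 = 3 ∧ β 1 = 2)) ∧
    (a = 0 ∨ a = 1) ∧ (c = 2 ∨ c = 3) ∧ ((β a = a ∧ β c = c) ∨ (β a = c ∧ β c = a)) ∧
    ((β (Equiv.swap 0 1 a) = Equiv.swap 0 1 a ∧ β (Equiv.swap 0 1 c) = Equiv.swap 0 1 c) ∨
      (β (Equiv.swap 0 1 a) = Equiv.swap 0 1 c ∧ β (Equiv.swap 0 1 c) = Equiv.swap 0 1 a))) → β = 1 := by
  decide +kernel

theorem key_pair2 : ∀ β : Equiv.Perm (Fin 5), ∀ a c : Fin 5, (β 4 = 4 ∧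
    ((β 0 = 0 ∧ β 1 = 1) ∨ (β 0 = 1 ∧ β 1 = 0) ∨ (β 0 = 2 ∧ β 1 = 3) ∨ (β 0 = 3 ∧ β 1 = 2)) ∧
    (a = 0 ∨ a = 1) ∧ (c = 2 ∨ c = 3) ∧ ((β a = a ∧ β c = c) ∨ (β a = c ∧ β c = a)) ∧
    ((β (Equiv.swap 2 3 a) = Equiv.swap 2 3 a ∧ β (Equiv.swap 2 3 c) = Equiv.swap 2 3 c) ∨
      (β (Equiv.swap 2 3 a) = Equiv.swap 2 3 c ∧ β (Equiv.swap 2 3 c) = Equiv.swap 2 3 a))) → β = 1 := by
  decide +kernel

theorem key_pair (β : Equiv.Perm (Fin 5)) (h4 : β 4 = 4)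
    (h01 : (β 0 = 0 ∧ β 1 = 1) ∨ (β 0 = 1 ∧ β 1 = 0) ∨ (β 0 = 2 ∧ β 1 = 3) ∨ (β 0 = 3 ∧ β 1 = 2))
    (a c : Fin 5) (ha : a = 0 ∨ a = 1) (hc : c = 2 ∨ c = 3) (h1 : (β a = a ∧ β c = c) ∨ (β a = c ∧ β c = a))
    (τ : Equiv.Perm (Fin 5)) (hτ : τ = Equiv.swap 0 1 ∨ τ = Equiv.swap 2 3)
    (h2 : (β (τ a) = τ a ∧ β (τ c) = τ c) ∨ (β (τ a) = τ c ∧ β (τ c) = τ a)) : β = 1 := by
  rcases hτ with rfl | rfl
  · exact key_pair1 β a c ⟨h4, h01, ha, hc, h1, h2⟩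
  · exact key_pair2 β a c ⟨h4, h01, ha, hc, h1, h2⟩

variable (h : FiveL S P p) {K' B ZJ : Subgroup G} {ι : Type} {L W Z C : ι → Subgroup G} {k m : ℕ}
  (hM : MulSG S P K' B ZJ L W Z C k m)
include h hM

theorem S_norm_ZJ {s x : G} (hs : s ∈ (S : Subgroup G)) (hx : x ∈ ZJ) : s * x * s⁻¹ ∈ ZJ := by
  have h1 := hM.lb.nrm (S : Subgroup G) S.isPGroup' (hM.lb.KB.trans (hM.lb.eqB.le.trans inf_le_left))
  exact (mem_normalizer_iff.1 (h1 (Subgroup.le_normalizer hs)) x).1 hx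

theorem four_mem_ZJ : p 4 ∈ ZJ := by
  refine (hM.fr.mem_ZJ _).2 ⟨h.p_mem 4, fun b hb => ?_⟩
  have hbS : b ∈ (S : Subgroup G) := by
    have := hM.lb.eqB ▸ hb
    exact (mem_inf.1 this).1
  exact comm_iff.1 (h.std.fix b hbS)

/-- some `b ∈ B` acts nontrivially -/
theorem exists_moving_B [Nonempty ι] : ∃ b ∈ B, ∃ β : Equiv.Perm (Fin 5), (∀ i, b * p i * b⁻¹ = p (β i)) ∧ β 4 = 4 ∧
    ((β 0 = 0 ∧ β 1 = 1) ∨ (β 0 = 1 ∧ β 1 = 0) ∨ (β 0 = 2 ∧ β 1 = 3) ∨ (β 0 = 3 ∧ β 1 = 2)) ∧ β ≠ 1 := by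
  obtain ⟨i⟩ := ‹Nonempty ι›
  obtain ⟨b, hb, v, hv, hne⟩ := (hM.fr.blk i).ne
  have hbS : b ∈ (S : Subgroup G) := by
    have := hM.lb.eqB ▸ hb
    exact (mem_inf.1 this).1
  obtain ⟨β, hβ, h4, h01⟩ := perm_S h hbS
  refine ⟨b, hb, β, hβ, h4, h01, ?_⟩
  rintro rfl
  apply hne
  have hvV : v ∈ zl (S : Subgroup G) P := hM.fr.WV i hv
  rw [h.gen] at hvV
  have h1 : b ∈ centralizer (closure (Set.range p) : Set G) := by
    rw [centralizer_closure, mem_centralizer_iff]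
    rintro _ ⟨j, rfl⟩
    exact (comm_iff.1 (hβ j)).symm
  exact (mem_centralizer_iff.1 h1 v hvV).symm

/-- no heavy vector besides `z` in `ZJ` -/
theorem not_mem_ZJ [Nonempty ι] {a : Fin 5} (ha : a ≠ 4) : p a ∉ ZJ := by
  intro hmem
  obtain ⟨b, hb, β, hβ, h4, h01, hne⟩ := exists_moving_B h hM
  obtain ⟨τ, hτS, hτ⟩ := h.std.tau
  obtain ⟨σ, hσ, s4, s01⟩ := perm_S h hτS
  have hfix : ∀ c, p c ∈ ZJ → β c = c := by
    intro c hc
    have h1 := ((hM.fr.mem_ZJ _).1 hc).2 b hb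
    apply h.std.inj
    rw [← hβ, comm_iff.2 h1]
  have h1 := hfix a hmem
  have h2 : p (σ a) ∈ ZJ := by
    rw [← hσ]
    exact S_norm_ZJ h hM hτS hmem
  have h3 := hfix _ h2
  have h5 : (σ 0 = 2 ∧ σ 1 = 3) ∨ (σ 0 = 3 ∧ σ 1 = 2) := by
    rw [cm, hσ, hσ] at hτ
    exact h.std.pair_inj (fun e => absurd (σ.injective e) (by decide)) (by decide) hτ
  have key : ∀ σ : Equiv.Perm (Fin 5), σ 4 = 4 → ((σ 0 = 2 ∧ σ 1 = 3) ∨ (σ 0 = 3 ∧ σ 1 = 2)) → ∀ a : Fin 5, a ≠ 4 →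
      ((a = 0 ∨ a = 1) ∧ (σ a = 2 ∨ σ a = 3)) ∨ ((σ a = 0 ∨ σ a = 1) ∧ (a = 2 ∨ a = 3)) := by decide +kernel
  rcases key σ s4 h5 a ha with ⟨h6, h7⟩ | ⟨h6, h7⟩
  · exact hne (key_fix β h4 h01 a (σ a) h6 h7 h1 h3)
  · exact hne (key_fix β h4 h01 (σ a) a h6 h7 h3 h1)

/-- no crossing pair in `ZJ` -/
theorem not_mem_ZJ' [Nonempty ι] {a c : Fin 5} (ha : a = 0 ∨ a = 1) (hc : c = 2 ∨ c = 3) : p a * p c ∉ ZJ := by
  intro hmem
  obtain ⟨b, hb, β, hβ, h4, h01, hne⟩ := exists_moving_B h hM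
  have hac : a ≠ c := by rcases ha with rfl | rfl <;> rcases hc with rfl | rfl <;> decide
  have hfix : ∀ c d, c ≠ d → p c * p d ∈ ZJ → (β c = c ∧ β d = d) ∨ (β c = d ∧ β d = c) := by
    intro c d hcd hc
    have h1 := comm_iff.2 (((hM.fr.mem_ZJ _).1 hc).2 b hb)
    rw [cm, hβ, hβ] at h1
    exact h.std.pair_inj (fun e => hcd (β.injective e)) hcd h1
  obtain ⟨s, hs, hsw⟩ := exists_swap h
  obtain ⟨τ, hτ, hτσ⟩ : ∃ τ : Equiv.Perm (Fin 5), (τ = Equiv.swap 0 1 ∨ τ = Equiv.swap 2 3) ∧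
      ∀ i, s * p i * s⁻¹ = p (τ i) := by
    rcases hsw with h1 | h1
    · exact ⟨_, Or.inl rfl, h1⟩
    · exact ⟨_, Or.inr rfl, h1⟩
  have h2 : p (τ a) * p (τ c) ∈ ZJ := by
    have := S_norm_ZJ h hM hs hmem
    rwa [cm, hτσ, hτσ] at this
  exact hne (key_pair β h4 h01 a c ha hc (hfix a c hac hmem) τ hτ
    (hfix _ _ (fun e => hac (τ.injective e)) h2))

/-- **`ZJ ≤ {1, n, a, z}`** -/
theorem ZJ_sub [Nonempty ι] {x : G} (hx : x ∈ ZJ) : x = 1 ∨ x = nn p ∨ x = aa p ∨ x = p 4 := by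
  rcases h.elts (hM.fr.ZJV hx) with e | ⟨i, e⟩ | ⟨i, j, hij, e⟩
  · exact Or.inl e
  · by_cases hi : i = 4
    · subst hi
      exact Or.inr (Or.inr (Or.inr e))
    · exact absurd (e ▸ hx) (not_mem_ZJ h hM hi)
  · have h4 := four_mem_ZJ h hM
    have hswap : ∀ a c : Fin 5, p a * p c ∈ ZJ → p c * p a ∈ ZJ := fun a c hac => by rwa [h.std.comm c a]
    have hmul : ∀ a : Fin 5, p a * p 4 ∈ ZJ → p a ∈ ZJ := by
      intro a hac
      have := mul_mem hac h4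
      rwa [mul_assoc, h.std.sq, mul_one] at this
    rw [e] at hx
    have key : ∀ i j : Fin 5, i ≠ j → (i ≠ 4 ∧ j = 4) ∨ (i = 4 ∧ j ≠ 4) ∨ (i = 0 ∧ j = 1) ∨ (i = 1 ∧ j = 0) ∨
        (i = 2 ∧ j = 3) ∨ (i = 3 ∧ j = 2) ∨ ((i = 0 ∨ i = 1) ∧ (j = 2 ∨ j = 3)) ∨
        ((j = 0 ∨ j = 1) ∧ (i = 2 ∨ i = 3)) := by decide
    rcases key i j hij with ⟨h1, rfl⟩ | ⟨rfl, h1⟩ | ⟨rfl, rfl⟩ | ⟨rfl, rfl⟩ | ⟨rfl, rfl⟩ | ⟨rfl, rfl⟩ | ⟨h1, h2⟩ |
      ⟨h1, h2⟩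
    · exact absurd (hmul i hx) (not_mem_ZJ h hM h1)
    · exact absurd (hmul j (hswap _ _ hx)) (not_mem_ZJ h hM h1)
    · exact Or.inr (Or.inl e)
    · exact Or.inr (Or.inl (e.trans (h.std.comm 1 0)))
    · exact Or.inr (Or.inr (Or.inl e))
    · exact Or.inr (Or.inr (Or.inl (e.trans (h.std.comm 3 2))))
    · exact absurd hx (not_mem_ZJ' h hM h1 h2)
    · exact absurd (hswap _ _ hx) (not_mem_ZJ' h hM h1 h2)

/-- `Z i` is generated by one involution -/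
theorem exists_z (i : ι) : ∃ z, z ≠ 1 ∧ z * z = 1 ∧ Z i = zpowers z := by
  have hp2 : Fact (Nat.Prime 2) := ⟨Nat.prime_two⟩
  have hc := hM.fr.cardZ i
  have : Nontrivial (Z i) := by
    rw [← Finite.one_lt_card_iff_nontrivial, hc]
    norm_num
  obtain ⟨⟨z, hz⟩, hz1⟩ := exists_ne (1 : Z i)
  have hz1' : z ≠ 1 := fun e => hz1 (Subtype.ext e)
  have hzz : z * z = 1 := by
    have := hM.fr.Vsq (hM.fr.ZV i hz)
    rwa [sq] at this
  refine ⟨z, hz1', hzz, (Subgroup.eq_of_le_of_card_ge (zpowers_le.2 hz) ?_).symm⟩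
  rw [hc, Nat.card_zpowers, orderOf_eq_prime (by rw [sq]; exact hzz) hz1']

omit h hM [Finite G] in
theorem mem_zp {z x : G} (hz : z * z = 1) (hx : x ∈ zpowers z) : x = 1 ∨ x = z := by
  obtain ⟨n, rfl⟩ := mem_zpowers_iff.1 hx
  rcases Int.even_or_odd' n with ⟨k, rfl | rfl⟩
  · left
    rw [zpow_mul, zpow_ofNat, sq, hz, one_zpow]
  · right
    rw [zpow_add, zpow_mul, zpow_ofNat, sq, hz, one_zpow, one_mul, zpow_one]

theorem Z_inf {i j : ι} (hij : i ≠ j) : Z i ⊓ Z j = ⊥ := by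
  rw [eq_bot_iff, ← hM.fr.dir i]
  exact inf_le_inf (hM.fr.blk i).ZV (((hM.fr.blk j).ZV).trans (hM.fr.WjC i j hij))

/-- **`ZJ = {1, n, a, z}`** -/
theorem mem_ZJ [Nonempty ι] {x : G} : x ∈ ZJ ↔ x = 1 ∨ x = nn p ∨ x = aa p ∨ x = p 4 := by
  have h4 := four_mem_ZJ h hM
  obtain ⟨i⟩ := ‹Nonempty ι›
  obtain ⟨j, hji⟩ := hM.two i
  have hna : nn p ∈ ZJ ∨ aa p ∈ ZJ := by
    obtain ⟨z, hz1, hzz, hZ⟩ := exists_z h hM i
    obtain ⟨w, hw1, hww, hZ'⟩ := exists_z h hM j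
    have hz : z ∈ ZJ := hM.fr.Z_le i (hZ ▸ mem_zpowers z)
    have hw : w ∈ ZJ := hM.fr.Z_le j (hZ' ▸ mem_zpowers w)
    have hne : z ≠ w := by
      rintro rfl
      have h1 : z ∈ Z i ⊓ Z j := mem_inf.2 ⟨hZ ▸ mem_zpowers z, hZ' ▸ mem_zpowers z⟩
      rw [Z_inf h hM (Ne.symm hji), mem_bot] at h1
      exact hz1 h1
    rcases ZJ_sub h hM hz with e | e | e | e
    · exact absurd e hz1
    · exact Or.inl (e ▸ hz)
    · exact Or.inr (e ▸ hz)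
    · rcases ZJ_sub h hM hw with e' | e' | e' | e'
      · exact absurd e' hw1
      · exact Or.inl (e' ▸ hw)
      · exact Or.inr (e' ▸ hw)
      · exact absurd (e.trans e'.symm) hne
  have hn : nn p ∈ ZJ := by
    rcases hna with h1 | h1
    · exact h1
    · have := mul_mem h1 h4
      have e : aa p * p 4 = nn p := by
        rw [← h.std.an, ← mul_assoc, h.std.asq, one_mul]
      rwa [e] at this
  have ha : aa p ∈ ZJ := by
    rw [h.std.a_eq]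
    exact mul_mem hn h4
  refine ⟨ZJ_sub h hM, ?_⟩
  rintro (rfl | rfl | rfl | rfl)
  exacts [one_mem _, hn, ha, h4]

theorem cent_ZJ [Nonempty ι] : centralizer (ZJ : Set G) = centralizer ({nn p, aa p} : Set G) := by
  ext g
  rw [mem_centralizer_iff, mem_centralizer_iff]
  constructor
  · intro hg x hx
    apply hg
    rcases hx with rfl | hx
    · exact (mem_ZJ h hM).2 (Or.inr (Or.inl rfl))
    · rw [Set.mem_singleton_iff] at hx
      subst hx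
      exact (mem_ZJ h hM).2 (Or.inr (Or.inr (Or.inl rfl)))
  · intro hg x hx
    have hn := hg (nn p) (by simp)
    have ha := hg (aa p) (by simp)
    rcases (mem_ZJ h hM).1 hx with rfl | rfl | rfl | rfl
    · rw [one_mul, mul_one]
    · exact hn
    · exact ha
    · rw [← h.std.na, mul_assoc, ha, ← mul_assoc, hn, mul_assoc]

/-- **`B = T = C_S(n)`** -/
theorem B_eq [Nonempty ι] : B = Std.T (S : Subgroup G) p := by
  rw [hM.lb.eqB, cent_ZJ h hM]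
  apply le_antisymm
  · refine le_inf inf_le_left (inf_le_right.trans (centralizer_le ?_))
    simp
  · intro s hs
    obtain ⟨h1, h2⟩ := Std.mem_T.1 hs
    refine mem_inf.2 ⟨h1, mem_centralizer_iff.2 ?_⟩
    have hn : nn p * s = s * nn p := (comm_iff.1 h2).symm
    rintro x (rfl | hx)
    · exact hn
    · rw [Set.mem_singleton_iff] at hx
      subst hx
      have h4 : p 4 * s = s * p 4 := (comm_iff.1 (h.std.fix s h1)).symm
      rw [h.std.a_eq, mul_assoc, h4, ← mul_assoc, hn, mul_assoc]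

end zj

/-! ### The blocks -/

section blocks

variable (h : FiveL S P p) {K' B ZJ : Subgroup G} {ι : Type} {L W Z C : ι → Subgroup G} {k m : ℕ}
  (hM : MulSG S P K' B ZJ L W Z C k m)
include h hM

/-- `Z i = ⟨n⟩` or `⟨a⟩` -/
theorem Z_cases (i : ι) : Z i = zpowers (nn p) ∨ Z i = zpowers (aa p) := by
  have hne : Nonempty ι := ⟨i⟩
  obtain ⟨z, hz1, hzz, hZ⟩ := exists_z h hM i
  have hzZ : z ∈ Z i := hZ ▸ mem_zpowers z
  rcases (mem_ZJ h hM).1 (hM.fr.Z_le i hzZ) with e | e | e | e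
  · exact absurd e hz1
  · exact Or.inl (e ▸ hZ)
  · exact Or.inr (e ▸ hZ)
  exfalso
  have hb := hM.fr.blk i
  obtain ⟨l, hl, hlne, -⟩ := hb.exists_mv
  -- `w = l z l⁻¹` is heavy, not in `Z i`
  have hlN : ∀ v ∈ zl (S : Subgroup G) P, l * v * l⁻¹ ∈ zl (S : Subgroup G) P := hM.fr.LV i l hl
  have hheavy : ∀ g : G, g * z * g⁻¹ ∈ zl (S : Subgroup G) P → ∃ j, g * z * g⁻¹ = p j := by
    intro g hg
    rcases h.elts hg with e1 | ⟨j, e1⟩ | ⟨j, j', hjj, e1⟩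
    · exfalso
      apply hz1
      calc z = g⁻¹ * (g * z * g⁻¹) * g := by group
        _ = 1 := by rw [e1]; group
    · exact ⟨j, e1⟩
    · exfalso
      obtain ⟨y, -, hy⟩ := h.lights hjj
      apply h.not_conj (y⁻¹ * g)
      calc y⁻¹ * g * p 4 * (y⁻¹ * g)⁻¹ = y⁻¹ * (g * z * g⁻¹) * y := by rw [e]; group
        _ = y⁻¹ * (p j * p j') * y := by rw [e1]
        _ = nn p := by rw [← hy]; group
  have hzV : z ∈ zl (S : Subgroup G) P := hM.fr.ZV i hzZ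
  obtain ⟨j, hj⟩ := hheavy l (hlN z hzV)
  have hwW : p j ∈ W i := by
    rw [← hj]
    exact hb.nV l hl z (hb.ZV hzZ)
  have hwZ : p j ∉ Z i := by
    intro hw
    apply hlne
    refine Subgroup.eq_of_le_of_card_ge ?_ (by rw [card_cj])
    rw [hZ]
    rintro _ ⟨x, hx, rfl⟩
    rcases mem_zp hzz hx with e1 | e1
    · subst e1
      simp
    · rw [hZ] at hw
      have h5 : l * z * l⁻¹ ∈ zpowers z := by rw [hj]; exact hw
      have h6 : l * x * l⁻¹ ∈ zpowers z := by rw [e1]; exact h5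
      exact h6
  -- `b` moves `w`
  obtain ⟨b, hb1, hb2⟩ : ∃ b ∈ B, b * p j ≠ p j * b := by
    by_contra hcon
    push Not at hcon
    exact hwZ (hb.toMd.mem_Z_iff.2 ⟨hwW, hcon⟩)
  have hcom := hb.toMd.com b hb1 _ hwW
  rw [hZ] at hcom
  rcases mem_zp hzz hcom with e1 | e1
  · exact hb2 (comm_iff.1 (mul_inv_eq_one.1 e1))
  · have h1 : b * p j * b⁻¹ = z * p j := mul_inv_eq_iff_eq_mul.1 e1
    have h2 : (b * l) * z * (b * l)⁻¹ = z * p j := by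
      rw [← h1, ← hj]; group
    have h3 : (b * l) * z * (b * l)⁻¹ ∈ zl (S : Subgroup G) P := by
      rw [h2]
      exact mul_mem hzV (h.p_mem j)
    obtain ⟨j', hj'⟩ := hheavy _ h3
    rw [h2, e] at hj'
    have hj4 : (4 : Fin 5) ≠ j := by
      rintro rfl
      apply hwZ
      rw [← e]
      exact hzZ
    exact h.std.mul_ne hj4 j' hj'

/-- `L i ≤ N_G(V)` -/
theorem L_le_norm (i : ι) : L i ≤ normalizer (zl (S : Subgroup G) P : Set G) := by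
  intro l hl
  rw [mem_normalizer_iff_cj]
  refine Subgroup.eq_of_le_of_card_ge ?_ (by rw [card_cj])
  rintro _ ⟨x, hx, rfl⟩
  exact hM.fr.LV i l hl x hx

/-- the block of `n` centralises `a` -/
theorem L_le_of_nn {i : ι} (hi : Z i = zpowers (nn p)) : L i ≤ centralizer ({aa p} : Set G) := by
  have hne : Nonempty ι := ⟨i⟩
  obtain ⟨j, hji⟩ := hM.two i
  have hj : Z j = zpowers (aa p) := by
    rcases Z_cases h hM j with h1 | h1
    · exfalso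
      have h2 := Z_inf h hM hji
      rw [h1, hi, inf_idem] at h2
      exact h.std.n_ne_one (zpowers_eq_bot.1 h2)
    · exact h1
  have haC : aa p ∈ C i := (((hM.fr.blk j).ZV).trans (hM.fr.WjC i j hji.symm)) (hj ▸ mem_zpowers _)
  intro l hl
  rw [mem_cent, comm_iff]
  exact hM.fr.LC i l hl _ ((mem_ZJ h hM).2 (Or.inr (Or.inr (Or.inl rfl)))) haC

/-- the block of `a` centralises `n` -/
theorem L_le_of_aa {i : ι} (hi : Z i = zpowers (aa p)) : L i ≤ centralizer ({nn p} : Set G) := by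
  have hne : Nonempty ι := ⟨i⟩
  obtain ⟨j, hji⟩ := hM.two i
  have hj : Z j = zpowers (nn p) := by
    rcases Z_cases h hM j with h1 | h1
    · exact h1
    · exfalso
      have h2 := Z_inf h hM hji
      rw [h1, hi, inf_idem] at h2
      exact h.std.a_ne_one (zpowers_eq_bot.1 h2)
  have haC : nn p ∈ C i := (((hM.fr.blk j).ZV).trans (hM.fr.WjC i j hji.symm)) (hj ▸ mem_zpowers _)
  intro l hl
  rw [mem_cent, comm_iff]
  exact hM.fr.LC i l hl _ ((mem_ZJ h hM).2 (Or.inr (Or.inl rfl))) haC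

/-- every block lies in `C_L(n)` or `C_L(a)` -/
theorem L_le_sup (i : ι) : L i ≤ (normalizer (zl (S : Subgroup G) P : Set G) ⊓ centralizer ({nn p} : Set G)) ⊔
    (normalizer (zl (S : Subgroup G) P : Set G) ⊓ centralizer ({aa p} : Set G)) := by
  rcases Z_cases h hM i with h1 | h1
  · exact (le_inf (L_le_norm h hM i) (L_le_of_nn h hM h1)).trans le_sup_right
  · exact (le_inf (L_le_norm h hM i) (L_le_of_aa h hM h1)).trans le_sup_left

/-- **`KZ B ZJ ≤ ⟨D, C_L(n), C_L(a)⟩`**, `D = C_G(n, a)`, `L = N_G(V)`. -/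
theorem KZ_le [Nonempty ι] (uni : UniI B ZJ L W) : KZ B ZJ ≤ centralizer ({nn p, aa p} : Set G) ⊔
    ((normalizer (zl (S : Subgroup G) P : Set G) ⊓ centralizer ({nn p} : Set G)) ⊔
      (normalizer (zl (S : Subgroup G) P : Set G) ⊓ centralizer ({aa p} : Set G))) := by
  refine sup_le ((cent_ZJ h hM).le.trans le_sup_left) (iSup_le fun x => ?_)
  obtain ⟨i, -, h2⟩ := uni _ _ x.2
  refine h2.trans (sup_le ((L_le_sup h hM i).trans le_sup_right) ?_)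
  refine (centralizer_le ?_).trans ((cent_ZJ h hM).le.trans le_sup_left)
  exact fun v hv => (le_sup_right : ZJ ≤ W i ⊔ ZJ) hv

/-- **The end of (E), light case**: no nontrivial 2-group is normalised by `D`, `C_L(n)`, `C_L(a)`. -/
theorem false_of_local [Nonempty ι] (uni : UniI B ZJ L W) (hN : NLoc (KZ B ZJ)) {N : Subgroup G}
    (h2 : IsPGroup 2 N) (hne : N ≠ ⊥) (hD : centralizer ({nn p, aa p} : Set G) ≤ normalizer (N : Set G))
    (h1 : normalizer (zl (S : Subgroup G) P : Set G) ⊓ centralizer ({nn p} : Set G) ≤ normalizer (N : Set G))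
    (h3 : normalizer (zl (S : Subgroup G) P : Set G) ⊓ centralizer ({aa p} : Set G) ≤ normalizer (N : Set G)) :
    False :=
  hne (hN N h2 ((KZ_le h hM uni).trans (sup_le hD (sup_le h1 h3))))

end blocks

end Cfsg.Agent.Omega.NO3S.LightFive
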