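import Cfsg.Agent.Omega.NO3S.LightFive.TwoAFacts
import Cfsg.Agent.Omega.NO3S.LightFive.TwoAInst

/-!
# LightL (E), `n = 5`: (A) of #25060 (helper411) over `FiveL S P p`, every stage

`V = zl S P`, `n = nn p`, `a = aa p`, `D = C_G(n) ∩ C_G(a)`, `T = C_S(n)`, `L*` any subgroup with `N_G(V), X_12 ≤ L*`.

* `OneP S P p L*` : (1') (helper433 #26100);
* `dt` : the data `TwoA.Dt`; **`le`** : if `J(O₂(D))` moves `V`, then `D ≤ L*`.
-/

set_option autoImplicit false
set_option linter.unusedSectionVars false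

namespace Cfsg.Agent.Omega.NO3S.LightFive.TwoAPlug

open Subgroup Cfsg Cfsg.Agent.ZN Cfsg.Agent.ZN.ChoiceBase
open Cfsg.Agent.ZN.ChoiceSit (Syl)
open Cfsg.Agent.Omega.NTwo Cfsg.Agent.Omega.NO3S Cfsg.Agent.Omega.NO3S.Sym.Exit Cfsg.Agent.Omega.NO3S.Sym.Light
open Cfsg.Agent.MinSimple.MinParabolic (IsMinPar)
open Cfsg.Agent.MinSimple.VModule (oddGen)

universe u

variable {G : Type u} [Group G] [Finite G] {S : Sylow 2 G} {P : Subgroup G} {p : Fin 5 → G}

/-- **(1')** for `FiveL S P p` and `L*` (the field `one` of `TwoA.Dt`). -/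
def OneP (S : Sylow 2 G) (P : Subgroup G) (p : Fin 5 → G) (Ls : Subgroup G) : Prop :=
  ∀ R : Subgroup G, IsMinPar (Std.T (S : Subgroup G) p) R → R ≤ centralizer ({nn p} : Set G) →
    R ≤ centralizer ({aa p} : Set G) → ¬ R ≤ Ls →
    ∀ M : Subgroup G, M ≤ DD (zl (S : Subgroup G) P) (p 4) →
      (∀ X : Subgroup G, zl (S : Subgroup G) P ≤ X → R ≤ normalizer (X : Set G) → M ≤ X) →
      R ≤ normalizer (M : Set G) → M ≤ centralizer (o2 R : Set G) → oddGen R ≤ centralizer (M : Set G)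

/-- **The data of TWO PAIRS for `FiveL S P p`.** -/
theorem dt (h : FiveL S P p) {Ls : Subgroup G} (hL : normalizer (zl (S : Subgroup G) P : Set G) ≤ Ls)
    (hX : centralizer {p 2, p 3, p 4} ≤ Ls)
    (hN : ∀ g ∈ centralizer ({nn p} : Set G) ⊓ centralizer ({aa p} : Set G),
      g ∈ normalizer (Std.T (S : Subgroup G) p : Set G) → g ∈ Ls) (one : OneP S P p Ls) :
    TwoA.Dt (normalizer (zl (S : Subgroup G) P : Set G)) Ls (Std.T (S : Subgroup G) p)
      (DD (zl (S : Subgroup G) P) (p 4)) p where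
  fv := fv_N h
  cv := by
    rw [TwoA.VV, VV_eq h]
    exact centralizer_le_normalizer _
  LLs := hL
  cen := cen h hL hX
  syl := LightB.sylD h
  TL := Std.T_le.trans (MFive.Inst.SL h)
  nT := hN
  Uc := U_comm h
  Us := U_sq h
  VU := by rw [TwoA.VV, VV_eq h]; exact V_le_U
  nU := nU
  one := fun R hR hRD hRL M hMU hM hn hO => by
    rw [TwoA.VV, VV_eq h] at hM
    exact one R hR (hRD.trans inf_le_left) (hRD.trans inf_le_right) hRL M hMU hM hn hO

/-- **(A) of #25060 for `FiveL S P p`**: if `J(O₂(D))`, `D = C_G(n) ∩ C_G(a)`, does not centralise `V`: `D ≤ L*`. -/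
theorem le (h : FiveL S P p) {Ls : Subgroup G} (hL : normalizer (zl (S : Subgroup G) P : Set G) ≤ Ls)
    (hX : centralizer {p 2, p 3, p 4} ≤ Ls)
    (hN : ∀ g ∈ centralizer ({nn p} : Set G) ⊓ centralizer ({aa p} : Set G),
      g ∈ normalizer (Std.T (S : Subgroup G) p : Set G) → g ∈ Ls) (one : OneP S P p Ls)
    (hJ : ¬ jj (o2 (centralizer ({nn p} : Set G) ⊓ centralizer ({aa p} : Set G))) ≤
      centralizer (zl (S : Subgroup G) P : Set G)) :
    centralizer ({nn p} : Set G) ⊓ centralizer ({aa p} : Set G) ≤ Ls :=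
  (dt h hL hX hN one).le (by rw [TwoA.VV, VV_eq h]; exact hJ)

end Cfsg.Agent.Omega.NO3S.LightFive.TwoAPlug
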